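import Mathlib.RingTheory.Trace.Basic
import Mathlib.RingTheory.Flat.Basic
import Mathlib.LinearAlgebra.Dual.Lemmas
import Mathlib.FieldTheory.Fixed
import Groth.Prelude.Def_GalDesc

/-! Galois descent for semilinear actions twisted by a cocycle. -/

set_option autoImplicit false
set_option linter.unusedSectionVars false
universe u v w x y

open scoped TensorProduct

namespace Groth.Agent.GalH1

section Dedekind

variable (k : Type u) (K : Type v) [Field k] [Field K] [Algebra k K] [FiniteDimensional k K]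

theorem span_orbit_vectors_eq_top {ι : Type w} (b : Module.Basis ι k K) :
    Submodule.span K (Set.range fun (i : ι) (σ : K ≃ₐ[k] K) => σ (b i)) = ⊤ := by
  classical
  by_contra hne
  obtain ⟨f, hf0, hf⟩ := Submodule.exists_dual_map_eq_bot_of_lt_top (lt_top_iff_ne_top.2 hne) inferInstance
  have hfv : ∀ i : ι, f (fun σ : K ≃ₐ[k] K => σ (b i)) = 0 := fun i =>
    (Submodule.mem_bot K).1 (hf ▸ Submodule.mem_map_of_mem (Submodule.subset_span ⟨i, rfl⟩))
  have hdec : ∀ v : (K ≃ₐ[k] K) → K, f v = ∑ σ, v σ * f (Pi.single σ 1) := fun v => by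
    conv_lhs => rw [← Finset.univ_sum_single v]
    rw [map_sum]
    refine Finset.sum_congr rfl fun σ _ => ?_
    rw [← smul_eq_mul (v σ) (f (Pi.single σ 1)), ← map_smul, ← Pi.single_smul', smul_eq_mul, mul_one]
  have hli : LinearIndependent K (fun σ : K ≃ₐ[k] K => (σ : K →ₐ[k] K).toLinearMap) :=
    (linearIndependent_toLinearMap k K K).comp _ fun _ _ h => AlgEquiv.coe_toAlgHom_injective h
  have hz : ∑ σ : K ≃ₐ[k] K, f (Pi.single σ 1) • (σ : K →ₐ[k] K).toLinearMap = 0 := by
    refine b.ext fun i => ?_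
    rw [LinearMap.zero_apply, LinearMap.sum_apply, ← hfv i, hdec]
    exact Finset.sum_congr rfl fun σ _ => mul_comm _ _
  refine hf0 (LinearMap.ext fun v => ?_)
  rw [hdec v, LinearMap.zero_apply]
  exact Finset.sum_eq_zero fun σ _ => by
    rw [Fintype.linearIndependent_iff.1 hli _ hz σ, mul_zero]

open Classical in
theorem exists_dual_elements {ι : Type w} [Fintype ι] (b : Module.Basis ι k K) :
    ∃ d : ι → K, ∀ σ : K ≃ₐ[k] K, ∑ i, d i * σ (b i) = if σ = 1 then 1 else 0 := by
  classical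
  obtain ⟨d, hd⟩ := (Submodule.mem_span_range_iff_exists_fun K).1
    ((span_orbit_vectors_eq_top k K b) ▸ Submodule.mem_top (x := fun σ : K ≃ₐ[k] K => if σ = 1 then (1 : K) else 0))
  refine ⟨d, fun σ => ?_⟩
  have := congrFun hd σ
  simpa only [Finset.sum_apply, Pi.smul_apply, smul_eq_mul] using this

end Dedekind

section Twist

variable {k : Type u} {K : Type v} [Field k] [Field K] [Algebra k K]
variable {M : Type w} [AddCommGroup M] [Module K M] [Module k M] [IsScalarTower k K M]
  [DistribMulAction (K ≃ₐ[k] K) M] [SMulDistribClass (K ≃ₐ[k] K) K M]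
  (a : GpH1.OneCocycle (K ≃ₐ[k] K) (M ≃ₗ[K] M))

/-- The action twisted by a cocycle. -/
def tw (σ : K ≃ₐ[k] K) : M →+ M where
  toFun x := a σ (σ • x)
  map_zero' := by rw [smul_zero, map_zero]
  map_add' x y := by rw [smul_add, map_add]

theorem tw_apply (σ : K ≃ₐ[k] K) (x : M) : tw a σ x = a σ (σ • x) := rfl

theorem tw_smul (σ : K ≃ₐ[k] K) (c : K) (x : M) : tw a σ (c • x) = σ c • tw a σ x := by
  rw [tw_apply, tw_apply, smul_distrib_smul σ c x, map_smul, AlgEquiv.smul_def]

theorem tw_mul (σ τ : K ≃ₐ[k] K) (x : M) : tw a (σ * τ) x = tw a σ (tw a τ x) := by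
  simp only [tw_apply]
  rw [a.2 σ τ]
  change a σ (σ • a τ (σ⁻¹ • ((σ * τ) • x))) = _
  rw [mul_smul, inv_smul_smul]

theorem tw_one (x : M) : tw a 1 x = x := by
  have h : tw a 1 (tw a 1 x) = tw a 1 x := by rw [← tw_mul, one_mul]
  rw [tw_apply a 1 (tw a 1 x), one_smul, tw_apply, one_smul] at h
  rw [tw_apply, one_smul]
  exact (a 1).injective h

theorem mem_fixedSub_iff_tw (x : M) : x ∈ GalDesc.fixedSub a ↔ ∀ σ, tw a σ x = x := Iff.rfl

variable [FiniteDimensional k K] [IsGalois k K]

theorem sum_tw_mem (x : M) : ∑ σ : K ≃ₐ[k] K, tw a σ x ∈ GalDesc.fixedSub a := fun τ => by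
  show tw a τ (∑ σ : K ≃ₐ[k] K, tw a σ x) = _
  rw [map_sum]
  simp_rw [← tw_mul]
  exact Fintype.sum_equiv (Equiv.mulLeft τ) _ _ fun σ => rfl

theorem sum_tw_smul_of_mem {x : M} (hx : x ∈ GalDesc.fixedSub a) (c : K) :
    ∑ σ : K ≃ₐ[k] K, tw a σ (c • x) = Algebra.trace k K c • x := by
  simp_rw [tw_smul, (mem_fixedSub_iff_tw a x).1 hx, ← Finset.sum_smul]
  rw [← trace_eq_sum_automorphisms, algebraMap_smul]

variable {W : Type x} [AddCommGroup W] [Module k W]

theorem lift_bijective (ι : W →ₗ[k] M) (hι : Function.Injective ι)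
    (hW : LinearMap.range ι = GalDesc.fixedSub a) :
    Function.Bijective (ι.liftBaseChange K) := by
  classical
  set b := Module.finBasis k K
  obtain ⟨d, hd⟩ := exists_dual_elements k K b
  have hrange : ∀ x : M, ∃ w : W, ι w = ∑ σ : K ≃ₐ[k] K, tw a σ x := fun x =>
    LinearMap.mem_range.1 (hW ▸ sum_tw_mem a x)
  choose p hp using hrange
  have hfix : ∀ w : W, ι w ∈ GalDesc.fixedSub a := fun w => hW ▸ LinearMap.mem_range_self ι w
  have hpadd : ∀ x y, p (x + y) = p x + p y := fun x y => hι (by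
    rw [map_add, hp, hp, hp, ← Finset.sum_add_distrib]
    simp_rw [map_add])
  have key : ∀ x : M, ι.liftBaseChange K (∑ i, d i ⊗ₜ[k] p (b i • x)) = x := fun x => by
    simp_rw [map_sum, LinearMap.liftBaseChange_tmul, hp, tw_smul, Finset.smul_sum, smul_smul]
    rw [Finset.sum_comm]
    simp_rw [← Finset.sum_smul, hd, ite_smul, zero_smul, one_smul]
    rw [Finset.sum_ite_eq' Finset.univ (1 : K ≃ₐ[k] K), if_pos (Finset.mem_univ _), tw_one]
  have hdual : ∀ c : K, ∑ i, Algebra.trace k K (b i * c) • d i = c := fun c => by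
    simp_rw [Algebra.smul_def, trace_eq_sum_automorphisms, Finset.sum_mul, map_mul]
    rw [Finset.sum_comm]
    have hσ : ∀ σ : K ≃ₐ[k] K, ∑ i, σ (b i) * σ c * d i = (if σ = 1 then 1 else 0) * σ c := fun σ => by
      rw [← hd σ, Finset.sum_mul]
      exact Finset.sum_congr rfl fun i _ => by ring
    simp_rw [hσ, ite_mul, zero_mul, one_mul]
    rw [Finset.sum_ite_eq' Finset.univ (1 : K ≃ₐ[k] K), if_pos (Finset.mem_univ _)]
    rfl
  have key2 : ∀ t, (∑ i, d i ⊗ₜ[k] p (b i • ι.liftBaseChange K t)) = t := fun t => by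
    induction t using TensorProduct.induction_on with
    | zero =>
      have h0 : p 0 = 0 := hι (by rw [hp, map_zero]; simp)
      simp only [map_zero, smul_zero, h0, TensorProduct.tmul_zero, Finset.sum_const_zero]
    | tmul c w =>
      have hpc : ∀ i, p (b i • c • ι w) = Algebra.trace k K (b i * c) • w := fun i => hι (by
        rw [hp, map_smul, smul_smul, sum_tw_smul_of_mem a (hfix w)])
      simp_rw [LinearMap.liftBaseChange_tmul, hpc, ← TensorProduct.smul_tmul, ← TensorProduct.sum_tmul,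
        hdual]
    | add s t hs ht =>
      simp only [map_add, smul_add, hpadd, TensorProduct.tmul_add, Finset.sum_add_distrib, hs, ht]
  exact ⟨Function.LeftInverse.injective (g := fun x => ∑ i, d i ⊗ₜ[k] p (b i • x)) key2,
    Function.RightInverse.surjective (g := fun x => ∑ i, d i ⊗ₜ[k] p (b i • x)) key⟩

/-- The descent isomorphism. -/
noncomputable def descEquiv (ι : W →ₗ[k] M) (hι : Function.Injective ι)
    (hW : LinearMap.range ι = GalDesc.fixedSub a) : K ⊗[k] W ≃ₗ[K] M :=
  LinearEquiv.ofBijective (ι.liftBaseChange K) (lift_bijective a ι hι hW)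

theorem descEquiv_tmul (ι : W →ₗ[k] M) (hι : Function.Injective ι)
    (hW : LinearMap.range ι = GalDesc.fixedSub a) (c : K) (w : W) :
    descEquiv a ι hι hW (c ⊗ₜ[k] w) = c • ι w :=
  LinearMap.liftBaseChange_tmul ..

theorem descEquiv_smul (ι : W →ₗ[k] M) (hι : Function.Injective ι)
    (hW : LinearMap.range ι = GalDesc.fixedSub a) (σ : K ≃ₐ[k] K) (t : K ⊗[k] W) :
    descEquiv a ι hι hW (σ • t) = tw a σ (descEquiv a ι hι hW t) := by
  have hfix : ∀ w : W, tw a σ (ι w) = ι w := fun w =>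
    (mem_fixedSub_iff_tw a (ι w)).1 (hW ▸ LinearMap.mem_range_self ι w) σ
  induction t using TensorProduct.induction_on with
  | zero => rw [smul_zero, map_zero, map_zero]
  | tmul c w =>
    rw [TensorProduct.smul_tmul', AlgEquiv.smul_def, descEquiv_tmul, descEquiv_tmul, tw_smul, hfix]
  | add s t hs ht => rw [smul_add, map_add, map_add, hs, ht, map_add]

theorem cocycle_descEquiv_symm (ι : W →ₗ[k] M) (hι : Function.Injective ι)
    (hW : LinearMap.range ι = GalDesc.fixedSub a) :
    GalDesc.cocycle k (descEquiv a ι hι hW).symm = a :=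
  GpH1.OneCocycle.ext fun σ => LinearEquiv.ext fun x => by
    rw [GalDesc.cocycle_apply, LinearEquiv.symm_symm, descEquiv_smul, LinearEquiv.apply_symm_apply,
      tw_apply, smul_inv_smul]

end Twist

section Forms

variable {k : Type u} {K : Type v} [Field k] [Field K] [Algebra k K]

theorem one_tmul_injective (W : Type w) [AddCommGroup W] [Module k W] :
    Function.Injective fun w : W => (1 : K) ⊗ₜ[k] w :=
  Module.Flat.tensorProduct_mk_injective k W K

theorem smul_one_tmul {W : Type w} [AddCommGroup W] [Module k W] (σ : K ≃ₐ[k] K) (w : W) :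
    σ • ((1 : K) ⊗ₜ[k] w) = (1 : K) ⊗ₜ[k] w := by
  rw [TensorProduct.smul_tmul', smul_one]

theorem baseChange_equivariant {W : Type w} {W' : Type x} [AddCommGroup W] [Module k W]
    [AddCommGroup W'] [Module k W'] (f : W →ₗ[k] W') (σ : K ≃ₐ[k] K) (t : K ⊗[k] W) :
    f.baseChange K (σ • t) = σ • f.baseChange K t := by
  induction t using TensorProduct.induction_on with
  | zero => simp only [smul_zero, map_zero]
  | tmul c w => simp only [TensorProduct.smul_tmul', LinearMap.baseChange_tmul]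
  | add s t hs ht => simp only [smul_add, map_add, hs, ht]

variable [FiniteDimensional k K] [IsGalois k K]

theorem exists_eq_one_tmul {W : Type w} [AddCommGroup W] [Module k W] {t : K ⊗[k] W}
    (ht : ∀ σ : K ≃ₐ[k] K, σ • t = t) : ∃ w : W, t = (1 : K) ⊗ₜ[k] w := by
  obtain ⟨c, hc⟩ := Algebra.trace_surjective k K 1
  have hmem : ∀ s : K ⊗[k] W, ∑ σ : K ≃ₐ[k] K, σ • s ∈ LinearMap.range (TensorProduct.mk k K W 1) :=
    fun s => by
    induction s using TensorProduct.induction_on with
    | zero => simp only [smul_zero, Finset.sum_const_zero, zero_mem]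
    | tmul e w =>
      refine ⟨Algebra.trace k K e • w, ?_⟩
      rw [TensorProduct.mk_apply, ← TensorProduct.smul_tmul, ← Algebra.algebraMap_eq_smul_one,
        trace_eq_sum_automorphisms, TensorProduct.sum_tmul]
      simp only [TensorProduct.smul_tmul', AlgEquiv.smul_def]
    | add s t hs ht => simp only [smul_add, Finset.sum_add_distrib]; exact add_mem hs ht
  obtain ⟨w, hw⟩ := hmem (c • t)
  refine ⟨w, ?_⟩
  rw [TensorProduct.mk_apply] at hw
  rw [hw]
  simp only [smul_distrib_smul, ht, ← Finset.sum_smul, AlgEquiv.smul_def]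
  rw [← trace_eq_sum_automorphisms, hc, map_one, one_smul]

/-- A Galois-equivariant isomorphism of base changes descends. -/
theorem exists_descend_equiv {W : Type w} {W' : Type x} [AddCommGroup W] [Module k W]
    [AddCommGroup W'] [Module k W'] (f : K ⊗[k] W ≃ₗ[K] K ⊗[k] W')
    (hf : ∀ (σ : K ≃ₐ[k] K) (t : K ⊗[k] W), f (σ • t) = σ • f t) :
    ∃ e : W ≃ₗ[k] W', ∀ (c : K) (w : W), f (c ⊗ₜ[k] w) = c ⊗ₜ[k] e w := by
  have h1 : ∀ w : W, ∃ w' : W', f (1 ⊗ₜ[k] w) = 1 ⊗ₜ[k] w' := fun w =>
    exists_eq_one_tmul fun σ => by rw [← hf, smul_one_tmul]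
  have h2 : ∀ w' : W', ∃ w : W, f.symm (1 ⊗ₜ[k] w') = 1 ⊗ₜ[k] w := fun w' =>
    exists_eq_one_tmul fun σ => f.injective (by rw [hf, f.apply_symm_apply, smul_one_tmul])
  choose e he using h1
  choose e' he' using h2
  refine ⟨{ toFun := e, invFun := e', map_add' := fun x y => one_tmul_injective (k := k) (K := K) W' ?_,
            map_smul' := fun r x => one_tmul_injective (k := k) (K := K) W' ?_,
            left_inv := fun w => one_tmul_injective (k := k) (K := K) W ?_,
            right_inv := fun w => one_tmul_injective (k := k) (K := K) W' ?_ }, fun c w => ?_⟩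
  · show (1 : K) ⊗ₜ[k] e (x + y) = 1 ⊗ₜ[k] (e x + e y)
    rw [TensorProduct.tmul_add, ← he, ← he, ← he, ← map_add, TensorProduct.tmul_add]
  · show (1 : K) ⊗ₜ[k] e (r • x) = 1 ⊗ₜ[k] (r • e x)
    rw [← he, TensorProduct.tmul_smul, TensorProduct.tmul_smul, ← he, ← algebraMap_smul K r, map_smul, algebraMap_smul]
  · show (1 : K) ⊗ₜ[k] e' (e w) = 1 ⊗ₜ[k] w
    rw [← he', ← he, f.symm_apply_apply]
  · show (1 : K) ⊗ₜ[k] e (e' w) = 1 ⊗ₜ[k] w
    rw [← he, ← he', f.apply_symm_apply]
  · show f (c ⊗ₜ[k] w) = c ⊗ₜ[k] e w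
    rw [← mul_one c, ← smul_eq_mul c 1, ← TensorProduct.smul_tmul', map_smul, he, TensorProduct.smul_tmul']

end Forms

end Groth.Agent.GalH1
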