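import Mathlib.LinearAlgebra.Matrix.GeneralLinearGroup.Basic
import Mathlib.LinearAlgebra.Matrix.ToLin
import Mathlib.LinearAlgebra.Matrix.Basis
import Mathlib.RingTheory.TensorProduct.Free
import Mathlib.LinearAlgebra.Dimension.Constructions
import Groth.Agent.GalH1.Descent

/-! Hilbert 90 for the general linear group. -/

set_option autoImplicit false
universe u v

open scoped TensorProduct Matrix

namespace Groth.Agent.GalH1

variable {k : Type u} {K : Type v} [Field k] [Field K] [Algebra k K]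

theorem smul_mulVec_map {n : ℕ} (σ : K ≃ₐ[k] K) (A : Matrix (Fin n) (Fin n) K) (x : Fin n → K) :
    σ • (A *ᵥ x) = A.map σ *ᵥ (σ • x) := by
  ext i
  simp only [Pi.smul_apply, Matrix.mulVec, dotProduct, AlgEquiv.smul_def, map_sum, map_mul, Matrix.map_apply]

theorem exists_eq_inv_mul_map [FiniteDimensional k K] [IsGalois k K] {n : ℕ}
    (B : (K ≃ₐ[k] K) → GL (Fin n) K)
    (hB : ∀ σ τ : K ≃ₐ[k] K, (B (σ * τ) : Matrix (Fin n) (Fin n) K) =
      (B σ : Matrix (Fin n) (Fin n) K) * (B τ : Matrix (Fin n) (Fin n) K).map σ) :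
    ∃ A : GL (Fin n) K, ∀ σ : K ≃ₐ[k] K,
      (B σ : Matrix (Fin n) (Fin n) K) =
        ((A⁻¹ : GL (Fin n) K) : Matrix (Fin n) (Fin n) K) * (A : Matrix (Fin n) (Fin n) K).map σ := by
  classical
  let a : GpH1.OneCocycle (K ≃ₐ[k] K) ((Fin n → K) ≃ₗ[K] (Fin n → K)) :=
    ⟨fun σ => LinearMap.GeneralLinearGroup.generalLinearEquiv K _ (Matrix.GeneralLinearGroup.toLin (B σ)),
      fun σ τ => LinearEquiv.ext fun x => by
        show (B (σ * τ) : Matrix (Fin n) (Fin n) K) *ᵥ x =
          (B σ : Matrix (Fin n) (Fin n) K) *ᵥ (σ • ((B τ : Matrix (Fin n) (Fin n) K) *ᵥ (σ⁻¹ • x)))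
        rw [hB, smul_mulVec_map, smul_inv_smul, Matrix.mulVec_mulVec]⟩
  let W := GalDesc.fixedSub a
  let D := descEquiv a W.subtype Subtype.val_injective W.range_subtype
  have : Module.Finite k W := inferInstance
  let b₀ := (Module.Free.chooseBasis k W)
  let bK := (b₀.baseChange K).map D
  have hcard : Fintype.card (Module.Free.ChooseBasisIndex k W) = Fintype.card (Fin n) := by
    rw [← Module.finrank_eq_card_basis bK, Module.finrank_pi, Fintype.card_fin]
  let e := (Fintype.equivOfCardEq hcard)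
  let b := bK.reindex e
  let P := (Pi.basisFun K (Fin n)).toMatrix b
  obtain ⟨U, hU⟩ : IsUnit P :=
    ⟨⟨P, b.toMatrix (Pi.basisFun K (Fin n)), Module.Basis.toMatrix_mul_toMatrix_flip _ _,
      Module.Basis.toMatrix_mul_toMatrix_flip _ _⟩, rfl⟩
  have hfix : ∀ j, ∀ σ : K ≃ₐ[k] K, (B σ : Matrix (Fin n) (Fin n) K) *ᵥ (σ • b j) = b j := fun j σ => by
    have hbj : b j = ((b₀ (e.symm j) : W) : Fin n → K) := by
      rw [Module.Basis.reindex_apply, Module.Basis.map_apply, Module.Basis.baseChange_apply,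
        show D _ = _ from descEquiv_tmul a W.subtype Subtype.val_injective W.range_subtype _ _, one_smul]
      rfl
    rw [hbj]
    exact (b₀ (e.symm j)).2 σ
  refine ⟨U⁻¹, fun σ => ?_⟩
  have hP : (B σ : Matrix (Fin n) (Fin n) K) * P.map σ = P := by
    ext i j
    have := congrFun (hfix j σ) i
    simpa [P, Matrix.mulVec, dotProduct, Matrix.mul_apply, AlgEquiv.smul_def, Module.Basis.toMatrix_apply] using this
  have h2 : (U : Matrix (Fin n) (Fin n) K).map σ * ((U⁻¹ : GL (Fin n) K) : Matrix (Fin n) (Fin n) K).map σ = 1 := by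
    rw [← Matrix.map_mul, Units.mul_inv, Matrix.map_one σ (map_zero σ) (map_one σ)]
  rw [inv_inv, ← mul_one (B σ : Matrix (Fin n) (Fin n) K), ← h2, ← mul_assoc, hU, hP]

end Groth.Agent.GalH1
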