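import Mathlib.RepresentationTheory.Coinvariants
import Mathlib.GroupTheory.SpecificGroups.Cyclic

/-! Crossed homomorphisms of a finite cyclic group. -/

set_option autoImplicit false
universe u v w

namespace Groth.Agent.GalH1

variable {k : Type u} {G : Type v} {V : Type w} [CommRing k] [Group G] [AddCommGroup V] [Module k V]
  (ρ : Representation k G V)

/-- Partial norm sums along powers of `t`. -/
def powSum (t : G) (v : V) (j : ℕ) : V := ∑ l ∈ Finset.range j, ρ (t ^ l) v

theorem powSum_add (t : G) (v : V) (a b : ℕ) :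
    powSum ρ t v (a + b) = powSum ρ t v a + ρ (t ^ a) (powSum ρ t v b) := by
  rw [powSum, Finset.sum_range_add, powSum, powSum, map_sum]
  exact congrArg _ (Finset.sum_congr rfl fun l _ => by rw [pow_add, map_mul]; rfl)

variable [Finite G] {t : G} (ht : ∀ g : G, g ∈ Subgroup.zpowers t)

include ht in
theorem exists_pow_eq (g : G) : ∃ j : ℕ, t ^ j = g :=
  mem_powers_iff_mem_zpowers.2 (ht g)

include ht in
theorem orderOf_eq_card : orderOf t = Nat.card G := by
  exact orderOf_eq_card_of_forall_mem_zpowers ht

include ht in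
theorem crossedHom_facts (m : ℕ) (hm : m ∣ Nat.card G) (htors : ∀ v : V, m • v = 0)
    (htriv : ∀ g : G, g ^ m = 1 → ∀ v : V, ρ g v = v) :
    (∀ f : G → V, (∀ g h : G, f (g * h) = ρ g (f h) + f g) →
        (Representation.Coinvariants.mk ρ (f t) = 0 ↔ ∃ x : V, ∀ g : G, f g = ρ g x - x)) ∧
    (∀ v : V, ∃ f : G → V, (∀ g h : G, f (g * h) = ρ g (f h) + f g) ∧
        Representation.Coinvariants.mk ρ (f t) = Representation.Coinvariants.mk ρ v) := by
  refine ⟨fun f hf => ⟨fun h0 => ?_, ?_⟩, fun v => ?_⟩
  · rw [Representation.Coinvariants.mk_eq_zero] at h0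
    let D : V →ₗ[k] V := ρ t - LinearMap.id
    have hD : ∀ (j : ℕ) (x : V), ρ (t ^ j) x - x = D (powSum ρ t x j) := fun j x => by
      have e : ρ (t ^ j) x + powSum ρ t x j = powSum ρ t x (1 + j) := by
        rw [Nat.add_comm 1 j, powSum_add]
        simp [powSum, add_comm]
      have e' := powSum_add ρ t x 1 j
      show ρ (t ^ j) x - x = ρ t (powSum ρ t x j) - powSum ρ t x j
      rw [← e] at e'
      simp only [powSum, Finset.sum_range_one, pow_zero, map_one, pow_one, Module.End.one_apply] at e' ⊢
      rw [eq_sub_iff_add_eq, sub_add_eq_add_sub, e', add_sub_cancel_left]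
    have hle : Representation.Coinvariants.ker ρ ≤ LinearMap.range D := Submodule.span_le.2 (by
      rintro _ ⟨⟨g, x⟩, rfl⟩
      obtain ⟨j, rfl⟩ := exists_pow_eq ht g
      exact ⟨_, (hD j x).symm⟩)
    obtain ⟨x, hx⟩ := hle h0
    refine ⟨x, fun g => ?_⟩
    obtain ⟨j, rfl⟩ := exists_pow_eq ht g
    induction j with
    | zero =>
      have h1 := hf 1 1
      rw [mul_one, map_one, Module.End.one_apply, left_eq_add] at h1
      rw [pow_zero, map_one, Module.End.one_apply, sub_self, h1]
    | succ j ih =>
      rw [pow_succ', hf, ih, map_sub, ← hx, map_mul]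
      show ρ t (ρ (t ^ j) x) - ρ t x + (ρ t x - x) = ρ t (ρ (t ^ j) x) - x
      abel
  · rintro ⟨x, hx⟩
    rw [Representation.Coinvariants.mk_eq_zero, hx]
    exact Representation.Coinvariants.sub_mem_ker t x
  · set n := Nat.card G with hn
    have hn0 : n ≠ 0 := Nat.card_pos.ne'
    have hord : orderOf t = n := orderOf_eq_card ht
    obtain ⟨d, hd⟩ := hm
    have htd : ρ (t ^ d) = 1 := LinearMap.ext fun x => by
      refine htriv _ ?_ x
      rw [← pow_mul, mul_comm, ← hd, ← hord, pow_orderOf_eq_one]
    have hmul : ∀ c : ℕ, powSum ρ t v (d * c) = c • powSum ρ t v d := fun c => by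
      induction c with
      | zero => simp [powSum]
      | succ c ih =>
        rw [Nat.mul_succ, powSum_add, ih, succ_nsmul, pow_mul, map_pow, htd, one_pow]
        rfl
    have hNv : powSum ρ t v n = 0 := by rw [hd, mul_comm, hmul, htors]
    have hper : ∀ a b : ℕ, t ^ a = t ^ b → powSum ρ t v a = powSum ρ t v b := by
      intro a b hab
      rw [pow_eq_pow_iff_modEq, hord] at hab
      have hstep : ∀ q r : ℕ, powSum ρ t v (q * n + r) = powSum ρ t v r := fun q r => by
        induction q with
        | zero => rw [zero_mul, zero_add]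
        | succ q ih =>
          rw [Nat.succ_mul, Nat.add_comm (q * n) n, Nat.add_assoc, powSum_add, hNv, zero_add, ih, ← hord,
            pow_orderOf_eq_one, map_one]
          rfl
      rw [← Nat.div_add_mod a n, ← Nat.div_add_mod b n, mul_comm n, mul_comm n, hstep, hstep, hab]
    choose J hJ using exists_pow_eq ht
    refine ⟨fun g => powSum ρ t v (J g), fun g h => ?_, ?_⟩
    · show powSum ρ t v (J (g * h)) = _
      rw [hper (J (g * h)) (J g + J h) (by rw [pow_add, hJ, hJ, hJ]), powSum_add, hJ, add_comm]
    · show Representation.Coinvariants.mk ρ (powSum ρ t v (J t)) = _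
      rw [hper (J t) 1 (by rw [hJ, pow_one])]
      simp [powSum]

end Groth.Agent.GalH1
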