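import Mathlib.Algebra.Central.Matrix
import Mathlib.LinearAlgebra.Matrix.Determinant.Basic
import Mathlib.RingTheory.TensorProduct.Maps
import Mathlib.RingTheory.Ideal.Quotient.Operations
import Mathlib.RingTheory.Flat.Basic
import Mathlib.RingTheory.Ideal.Maximal
import Groth.Agent.Csa25.Basic
import Groth.Prelude.Def_GSzCSA

/-! The determinant through any splitting isomorphism is one and the same. -/

set_option autoImplicit false
set_option linter.style.haveILetI false
set_option linter.unusedSectionVars false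
universe u v w x

open scoped TensorProduct

namespace Groth.Agent.GalH1

section Uniq

variable {k : Type u} [Field k] {A : Type w} [Ring A] [Algebra k A]

theorem lift_surjective {K : Type v} [Field K] [Algebra k K] {F : Type x} [Field F] [Algebra k F]
    {n : ℕ} (φ : K ⊗[k] A ≃ₐ[K] Matrix (Fin n) (Fin n) K) (i : K →ₐ[k] F)
    (f : F ⊗[k] A →ₐ[F] Matrix (Fin n) (Fin n) F)
    (hf : ∀ a, f (1 ⊗ₜ[k] a) = (φ (1 ⊗ₜ[k] a)).map i) : Function.Surjective f := by
  have hstd : ∀ M : Matrix (Fin n) (Fin n) K, M.map i ∈ LinearMap.range f.toLinearMap := fun M => by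
    obtain ⟨t, rfl⟩ := φ.surjective M
    induction t using TensorProduct.induction_on with
    | zero => rw [map_zero, Matrix.map_zero _ (map_zero i)]; exact zero_mem _
    | tmul c a =>
      rw [show c ⊗ₜ[k] a = c • ((1 : K) ⊗ₜ[k] a) by rw [TensorProduct.smul_tmul', smul_eq_mul, mul_one],
        map_smul, show (c • φ (1 ⊗ₜ[k] a)).map i = i c • (φ (1 ⊗ₜ[k] a)).map i by ext r s; simp]
      exact Submodule.smul_mem _ _ ⟨1 ⊗ₜ[k] a, hf a⟩
    | add s t hs ht => rw [map_add, Matrix.map_add _ (map_add i)]; exact add_mem hs ht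
  intro M
  rw [Matrix.matrix_eq_sum_single M]
  refine Submodule.sum_mem (LinearMap.range f.toLinearMap) fun r _ => Submodule.sum_mem _ fun s _ => ?_
  rw [show Matrix.single r s (M r s) = M r s • Matrix.single r s (1 : F) by rw [Matrix.smul_single, smul_eq_mul, mul_one]]
  refine Submodule.smul_mem _ _ ?_
  rw [← map_one i, ← Matrix.map_single (f := i)]
  exact hstd _

theorem det_eq_det {K : Type v} [Field K] [Algebra k K] {L : Type x} [Field L] [Algebra k L]
    {n m : ℕ} (φ : K ⊗[k] A ≃ₐ[K] Matrix (Fin n) (Fin n) K) (ψ : L ⊗[k] A ≃ₐ[L] Matrix (Fin m) (Fin m) L) :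
    ∃ (F : Type (max v x)) (_ : Field F) (_ : Algebra k F) (i : K →ₐ[k] F) (j : L →ₐ[k] F),
      ∀ a : A, i (Matrix.det (φ (1 ⊗ₜ[k] a))) = j (Matrix.det (ψ (1 ⊗ₜ[k] a))) := by
  classical
  have hnt : Nontrivial (K ⊗[k] L) := Algebra.TensorProduct.nontrivial_of_algebraMap_injective_of_flat_left k K L
    (algebraMap k L).injective
  obtain ⟨I, hI⟩ := Ideal.exists_maximal (K ⊗[k] L)
  let F := (K ⊗[k] L) ⧸ I
  letI : Field F := Ideal.Quotient.field I
  let i : K →ₐ[k] F := (Ideal.Quotient.mkₐ k I).comp Algebra.TensorProduct.includeLeft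
  let j : L →ₐ[k] F := (Ideal.Quotient.mkₐ k I).comp Algebra.TensorProduct.includeRight
  refine ⟨F, inferInstance, inferInstance, i, j, fun a => ?_⟩
  let f1 : F ⊗[k] A →ₐ[F] Matrix (Fin n) (Fin n) F := Algebra.TensorProduct.lift (Algebra.ofId F _)
    ((i.mapMatrix.comp (φ.toAlgHom.restrictScalars k)).comp Algebra.TensorProduct.includeRight)
    (fun c b => Algebra.commutes c _)
  let f2 : F ⊗[k] A →ₐ[F] Matrix (Fin m) (Fin m) F := Algebra.TensorProduct.lift (Algebra.ofId F _)
    ((j.mapMatrix.comp (ψ.toAlgHom.restrictScalars k)).comp Algebra.TensorProduct.includeRight)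
    (fun c b => Algebra.commutes c _)
  have h1 : ∀ a, f1 (1 ⊗ₜ[k] a) = (φ (1 ⊗ₜ[k] a)).map i := fun a => by simp [f1]
  have h2 : ∀ a, f2 (1 ⊗ₜ[k] a) = (ψ (1 ⊗ₜ[k] a)).map j := fun a => by simp [f2]
  have dK : Module.finrank k A = n * n := by
    rw [← Module.finrank_baseChange (R := K) (S := k), φ.toLinearEquiv.finrank_eq]
    simp [Module.finrank_matrix]
  have dL : Module.finrank k A = m * m := by
    rw [← Module.finrank_baseChange (R := L) (S := k), ψ.toLinearEquiv.finrank_eq]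
    simp [Module.finrank_matrix]
  obtain rfl : n = m := Nat.mul_self_inj.1 (dK.symm.trans dL)
  rcases Nat.eq_zero_or_pos n with hn | hn
  · subst hn
    simp [Matrix.det_isEmpty]
  haveI : NeZero n := ⟨hn.ne'⟩
  haveI : FiniteDimensional k A := Module.finite_of_finrank_pos (dK ▸ Nat.mul_pos hn hn)
  have dF : Module.finrank F (F ⊗[k] A) = Module.finrank F (Matrix (Fin n) (Fin n) F) := by
    rw [Module.finrank_baseChange, dK]
    simp [Module.finrank_matrix]
  have b1 : Function.Bijective f1 := ⟨(LinearMap.injective_iff_surjective_of_finrank_eq_finrank dF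
    (f := f1.toLinearMap)).2 (lift_surjective φ i f1 h1), lift_surjective φ i f1 h1⟩
  have b2 : Function.Bijective f2 := ⟨(LinearMap.injective_iff_surjective_of_finrank_eq_finrank dF
    (f := f2.toLinearMap)).2 (lift_surjective ψ j f2 h2), lift_surjective ψ j f2 h2⟩
  let θ := (AlgEquiv.ofBijective f1 b1).symm.trans (AlgEquiv.ofBijective f2 b2)
  obtain ⟨u, hu⟩ := Csa25.exists_unit_conj_algEquiv θ
  have h := hu ((φ (1 ⊗ₜ[k] a)).map i)
  have hθ : θ ((φ (1 ⊗ₜ[k] a)).map i) = (ψ (1 ⊗ₜ[k] a)).map j := by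
    rw [← h1, ← h2]
    show f2 ((AlgEquiv.ofBijective f1 b1).symm ((AlgEquiv.ofBijective f1 b1) (1 ⊗ₜ[k] a))) = _
    rw [AlgEquiv.symm_apply_apply]
  rw [hθ] at h
  rw [show i (Matrix.det (φ (1 ⊗ₜ[k] a))) = Matrix.det ((φ (1 ⊗ₜ[k] a)).map i) from AlgHom.map_det i _,
    show j (Matrix.det (ψ (1 ⊗ₜ[k] a))) = Matrix.det ((ψ (1 ⊗ₜ[k] a)).map j) from AlgHom.map_det j _,
    h, Matrix.det_units_conj]

/-- The reduced norm is computed by any splitting isomorphism. -/
theorem det_eq_of_isRedNorm {K : Type v} [Field K] [Algebra k K] {n : ℕ}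
    (φ : K ⊗[k] A ≃ₐ[K] Matrix (Fin n) (Fin n) K) {N : A →* k} (hN : CSAGal.IsRedNorm k A N) (a : A) :
    Matrix.det (φ (1 ⊗ₜ[k] a)) = algebraMap k K (N a) := by
  obtain ⟨L, _, _, _, m, ψ, hψ⟩ := hN
  obtain ⟨F, _, _, i, j, h⟩ := det_eq_det φ ψ
  apply i.toRingHom.injective
  show i _ = i _
  rw [h, ← hψ, i.commutes, j.commutes]

end Uniq

end Groth.Agent.GalH1
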