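import Mathlib.FieldTheory.KrullTopology
import Mathlib.FieldTheory.Galois.Infinite
import Mathlib.FieldTheory.IsSepClosed
import Mathlib.RingTheory.Trace.Basic
import Mathlib.Topology.LocallyConstant.Basic

/-! Hilbert 90 for locally constant cocycles of an infinite Galois group. -/

set_option autoImplicit false
universe u v w

open scoped Topology

namespace Groth.Agent.GalH1

variable {K : Type u} {L : Type v} [Field K] [Field L] [Algebra K L]

theorem exists_factor_of_isLocallyConstant [Normal K L] {A : Type w} (a : (L ≃ₐ[K] L) → A) (hlc : IsLocallyConstant a) :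
    ∃ E : IntermediateField K L, FiniteDimensional K E ∧ Normal K E ∧
      ∀ u ∈ E.fixingSubgroup, a u = a 1 := by
  obtain ⟨E, hE1, hE2, hE3⟩ :=
    (krullTopology_mem_nhds_one_iff_of_normal K L _).1 ((hlc.isOpen_fiber (a 1)).mem_nhds rfl)
  exact ⟨E, hE1, hE2, fun u hu => hE3 hu⟩

theorem inv_mul_mem_fixingSubgroup [Normal K L] (E : IntermediateField K L) [Normal K E] {σ τ : L ≃ₐ[K] L}
    (h : AlgEquiv.restrictNormalHom E σ = AlgEquiv.restrictNormalHom E τ) :
    σ⁻¹ * τ ∈ E.fixingSubgroup := by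
  rw [IntermediateField.mem_fixingSubgroup_iff]
  intro x hx
  have e : τ x = σ x := by
    rw [← AlgEquiv.restrictNormalHom_apply E τ ⟨x, hx⟩, ← h, AlgEquiv.restrictNormalHom_apply]
  show σ.symm (τ x) = x
  rw [e, AlgEquiv.symm_apply_apply]

theorem exists_add_coboundary [IsGalois K L] (a : (L ≃ₐ[K] L) → L)
    (ha : ∀ σ τ, a (σ * τ) = a σ + σ (a τ)) (hlc : IsLocallyConstant a) :
    ∃ y : L, ∀ σ, a σ = σ y - y := by
  obtain ⟨E, hfin, hnor, hE⟩ := exists_factor_of_isLocallyConstant a hlc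
  have h1 : a 1 = 0 := by
    have := ha 1 1
    rwa [mul_one, AlgEquiv.one_apply, left_eq_add] at this
  let s := Function.surjInv (AlgEquiv.restrictNormalHom_surjective (F := K) (K₁ := E) (E := L))
  have hs : ∀ t, AlgEquiv.restrictNormalHom E (s t) = t := Function.surjInv_eq _
  have ha' : ∀ σ t, a (s (AlgEquiv.restrictNormalHom E σ * t)) = a (σ * s t) := fun σ t => by
    have hu := inv_mul_mem_fixingSubgroup E (σ := σ * s t) (τ := s (AlgEquiv.restrictNormalHom E σ * t))
      (by rw [hs, map_mul, hs])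
    rw [← mul_inv_cancel_left (σ * s t) (s _), ha (σ * s t), hE _ hu, h1, map_zero, add_zero]
  have : Algebra.IsSeparable K E := Algebra.isSeparable_tower_bot_of_isSeparable K E L
  have : IsGalois K E := ⟨⟩
  obtain ⟨θ, hθ⟩ := Algebra.trace_surjective K E 1
  have hsum : ∑ t : E ≃ₐ[K] E, ((t θ : E) : L) = 1 := by
    have := congrArg (algebraMap K E) hθ
    rw [trace_eq_sum_automorphisms, map_one] at this
    rw [← AddSubmonoidClass.coe_finsetSum, this]
    rfl
  refine ⟨-∑ t : E ≃ₐ[K] E, a (s t) * ((t θ : E) : L), fun σ => ?_⟩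
  rw [map_neg, map_sum]
  have hterm : ∀ t : E ≃ₐ[K] E, σ (a (s t) * ((t θ : E) : L)) =
      a (s (AlgEquiv.restrictNormalHom E σ * t)) * (((AlgEquiv.restrictNormalHom E σ * t) θ : E) : L) -
        a σ * (((AlgEquiv.restrictNormalHom E σ * t) θ : E) : L) := fun t => by
    rw [map_mul, ← AlgEquiv.restrictNormalHom_apply E σ (t θ), ha', ha, add_mul, add_sub_cancel_left,
      AlgEquiv.mul_apply]
  simp only [hterm, Finset.sum_sub_distrib, ← Finset.mul_sum]
  have e1 := Equiv.sum_comp (Equiv.mulLeft (AlgEquiv.restrictNormalHom E σ))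
    (fun t => a (s t) * ((t θ : E) : L))
  have e2 := Equiv.sum_comp (Equiv.mulLeft (AlgEquiv.restrictNormalHom E σ)) (fun t => ((t θ : E) : L))
  simp only [Equiv.coe_mulLeft] at e1 e2
  rw [e1, e2, hsum, mul_one]
  ring

theorem exists_mul_coboundary [IsGalois K L] (a : (L ≃ₐ[K] L) → Lˣ)
    (ha : ∀ σ τ, a (σ * τ) = a σ * σ • a τ) (hlc : IsLocallyConstant a) :
    ∃ c : Lˣ, ∀ σ, a σ = c⁻¹ * σ • c := by
  obtain ⟨E, hfin, hnor, hE⟩ := exists_factor_of_isLocallyConstant a hlc
  have h1 : a 1 = 1 := by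
    have := ha 1 1
    rwa [mul_one, one_smul, left_eq_mul] at this
  let s := Function.surjInv (AlgEquiv.restrictNormalHom_surjective (F := K) (K₁ := E) (E := L))
  have hs : ∀ t, AlgEquiv.restrictNormalHom E (s t) = t := Function.surjInv_eq _
  have ha' : ∀ σ t, a (s (AlgEquiv.restrictNormalHom E σ * t)) = a (σ * s t) := fun σ t => by
    have hu := inv_mul_mem_fixingSubgroup E (σ := σ * s t) (τ := s (AlgEquiv.restrictNormalHom E σ * t))
      (by rw [hs, map_mul, hs])
    rw [← mul_inv_cancel_left (σ * s t) (s _), ha (σ * s t), hE _ hu, h1, smul_one, mul_one]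
  have : Algebra.IsSeparable K E := Algebra.isSeparable_tower_bot_of_isSeparable K E L
  let f : (E ≃ₐ[K] E) → (E →* L) := fun t => (E.val.comp (t : E →ₐ[K] E)).toRingHom.toMonoidHom
  have hf : Function.Injective f := fun t t' h =>
    AlgEquiv.ext fun x => Subtype.ext (DFunLike.congr_fun h x)
  obtain ⟨θ, hθ⟩ : ∃ θ : E, ∑ t : E ≃ₐ[K] E, (a (s t) : L) * ((t θ : E) : L) ≠ 0 := by
    by_contra! hne
    have hli := (linearIndependent_monoidHom E L).comp f hf
    have := Fintype.linearIndependent_iff.1 hli (fun t => (a (s t) : L)) (funext fun θ => by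
      rw [Finset.sum_apply]
      exact hne θ) 1
    exact (a (s 1)).ne_zero this
  refine ⟨(Units.mk0 _ hθ)⁻¹, fun σ => ?_⟩
  rw [inv_inv, smul_inv', eq_mul_inv_iff_mul_eq]
  refine Units.ext ?_
  show (a σ : L) * σ (∑ t : E ≃ₐ[K] E, (a (s t) : L) * ((t θ : E) : L)) = _
  rw [map_sum, Finset.mul_sum]
  refine Fintype.sum_equiv (Equiv.mulLeft (AlgEquiv.restrictNormalHom E σ)) _ _ fun t => ?_
  rw [map_mul, ← mul_assoc, Equiv.coe_mulLeft, ha', ha, Units.val_mul, AlgEquiv.mul_apply,
    AlgEquiv.restrictNormalHom_apply]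
  rfl

end Groth.Agent.GalH1
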