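import Mathlib.LinearAlgebra.Quotient.Basic
import Mathlib.LinearAlgebra.Isomorphisms
import Mathlib.SetTheory.Cardinal.NatCard
import Mathlib.Algebra.Module.Pi
import Mathlib.Algebra.BigOperators.Finprod
import Mathlib.SetTheory.Cardinal.Finite

/-! Cancellation of finite powers of finite modules. -/

set_option autoImplicit false
set_option linter.style.haveILetI false
universe u v w

namespace Groth.Agent.GalH1

variable {R : Type u} [Ring R]

theorem card_inj_eq {M N : Type v} [AddCommGroup M] [Module R M] [Finite M] [AddCommGroup N] [Module R N]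
    [Finite N] (hcard : ∀ (X : Type v) [AddCommGroup X] [Module R X] [Finite X],
      Nat.card (X →ₗ[R] M) = Nat.card (X →ₗ[R] N)) (n : ℕ) :
    ∀ (X : Type v) [AddCommGroup X] [Module R X] [Finite X], Nat.card X = n →
      Nat.card {f : X →ₗ[R] M // Function.Injective f} = Nat.card {f : X →ₗ[R] N // Function.Injective f} := by
  induction n using Nat.strong_induction_on with
  | h n ih =>
    intro X _ _ _ hn
    classical
    haveI : Finite (Submodule R X) := Finite.of_injective (fun S : Submodule R X => (S : Set X)) SetLike.coe_injective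
    letI := Fintype.ofFinite (Submodule R X)
    haveI hquot : ∀ S : Submodule R X, Finite (X ⧸ S) := fun S => Finite.of_surjective _ S.mkQ_surjective
    have key : ∀ (P : Type v) [AddCommGroup P] [Module R P] [Finite P], Nat.card (X →ₗ[R] P) =
        ∑ S : Submodule R X, Nat.card {f : (X ⧸ S) →ₗ[R] P // Function.Injective f} := fun P _ _ _ => by
      haveI : Finite (X →ₗ[R] P) := Finite.of_injective (fun f : X →ₗ[R] P => (f : X → P)) DFunLike.coe_injective
      haveI : ∀ S : Submodule R X, Finite ((X ⧸ S) →ₗ[R] P) := fun S =>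
        Finite.of_injective (fun f : (X ⧸ S) →ₗ[R] P => (f : (X ⧸ S) → P)) DFunLike.coe_injective
      rw [← Nat.card_sigma]
      refine (Nat.card_eq_of_bijective (fun p : Σ S : Submodule R X,
        {f : (X ⧸ S) →ₗ[R] P // Function.Injective f} => p.2.1.comp p.1.mkQ) ⟨?_, fun f => ?_⟩).symm
      · rintro ⟨S, f, hf⟩ ⟨S', f', hf'⟩ h
        have hker : ∀ (T : Submodule R X) (g : (X ⧸ T) →ₗ[R] P), Function.Injective g →
            LinearMap.ker (g.comp T.mkQ) = T := fun T g hg => by
          rw [LinearMap.ker_comp_of_ker_eq_bot _ (LinearMap.ker_eq_bot.2 hg), Submodule.ker_mkQ]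
        obtain rfl : S = S' := by
          rw [← hker S f hf, ← hker S' f' hf']
          exact congrArg LinearMap.ker h
        congr 1
        exact Subtype.ext (Submodule.linearMap_qext _ h)
      · exact ⟨⟨LinearMap.ker f, (LinearMap.ker f).liftQ f le_rfl,
          LinearMap.ker_eq_bot.1 (Submodule.ker_liftQ_eq_bot _ _ _ le_rfl)⟩, Submodule.liftQ_mkQ _ _ _⟩
    have hsplit := hcard X
    rw [key M, key N, ← Finset.add_sum_erase _ _ (Finset.mem_univ ⊥), ← Finset.add_sum_erase _ _ (Finset.mem_univ ⊥)]
      at hsplit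
    have hrest : ∀ S : Submodule R X, S ∈ Finset.univ.erase ⊥ →
        Nat.card {f : (X ⧸ S) →ₗ[R] M // Function.Injective f} =
          Nat.card {f : (X ⧸ S) →ₗ[R] N // Function.Injective f} := fun S hS => by
      refine ih (Nat.card (X ⧸ S)) ?_ _ rfl
      rw [← hn]
      refine lt_of_le_of_ne (Nat.card_le_card_of_surjective _ S.mkQ_surjective) fun heq => ?_
      have hinj : Function.Injective S.mkQ := (S.mkQ_surjective.bijective_of_nat_card_le heq.symm.le).1
      exact (Finset.mem_erase.1 hS).1 (S.ker_mkQ ▸ LinearMap.ker_eq_bot.2 hinj)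
    rw [Finset.sum_congr rfl hrest, Nat.add_right_cancel_iff] at hsplit
    let e := (Submodule.quotEquivOfEqBot (⊥ : Submodule R X) rfl)
    have tr : ∀ (P : Type v) [AddCommGroup P] [Module R P], Nat.card {f : X →ₗ[R] P // Function.Injective f} =
        Nat.card {f : (X ⧸ (⊥ : Submodule R X)) →ₗ[R] P // Function.Injective f} := fun P _ _ =>
      Nat.card_congr
        { toFun := fun f => ⟨f.1.comp e.toLinearMap, f.2.comp e.injective⟩
          invFun := fun f => ⟨f.1.comp e.symm.toLinearMap, f.2.comp e.symm.injective⟩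
          left_inv := fun f => Subtype.ext (LinearMap.ext fun x => congrArg f.1 (e.apply_symm_apply x))
          right_inv := fun f => Subtype.ext (LinearMap.ext fun x => congrArg f.1 (e.symm_apply_apply x)) }
    rw [tr M, tr N, hsplit]

theorem nonempty_linearEquiv_of_pi {M N : Type v} [AddCommGroup M] [Module R M] [Finite M]
    [AddCommGroup N] [Module R N] [Finite N] {ι : Type w} [Finite ι] [Nonempty ι]
    (e : (ι → M) ≃ₗ[R] (ι → N)) : Nonempty (M ≃ₗ[R] N) := by
  have hcard : ∀ (X : Type v) [AddCommGroup X] [Module R X] [Finite X],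
      Nat.card (X →ₗ[R] M) = Nat.card (X →ₗ[R] N) := fun X _ _ _ => by
    haveI : Finite (X →ₗ[R] M) := Finite.of_injective (fun f : X →ₗ[R] M => (f : X → M)) DFunLike.coe_injective
    haveI : Finite (X →ₗ[R] N) := Finite.of_injective (fun f : X →ₗ[R] N => (f : X → N)) DFunLike.coe_injective
    have pic : ∀ (P : Type v) [AddCommGroup P] [Module R P],
        Nat.card (ι → (X →ₗ[R] P)) = Nat.card (X →ₗ[R] (ι → P)) := fun P _ _ =>
      Nat.card_congr
        { toFun := fun f => LinearMap.pi f
          invFun := fun f i => (LinearMap.proj i).comp f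
          left_inv := fun f => funext fun i => LinearMap.ext fun x => rfl
          right_inv := fun f => LinearMap.ext fun x => rfl }
    have h : Nat.card (ι → (X →ₗ[R] M)) = Nat.card (ι → (X →ₗ[R] N)) := by
      rw [pic M, pic N]
      exact Nat.card_congr
        { toFun := fun f => e.toLinearMap.comp f
          invFun := fun f => e.symm.toLinearMap.comp f
          left_inv := fun f => LinearMap.ext fun x => e.symm_apply_apply (f x)
          right_inv := fun f => LinearMap.ext fun x => e.apply_symm_apply (f x) }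
    rw [Nat.card_fun, Nat.card_fun] at h
    exact Nat.pow_left_injective Nat.card_pos.ne' h
  have hMN : ∀ (P Q : Type v) [AddCommGroup P] [Module R P] [Finite P] [AddCommGroup Q] [Module R Q] [Finite Q],
      (∀ (X : Type v) [AddCommGroup X] [Module R X] [Finite X], Nat.card (X →ₗ[R] P) = Nat.card (X →ₗ[R] Q)) →
      ∃ f : P →ₗ[R] Q, Function.Injective f := fun P Q _ _ _ _ _ _ h => by
    have hc := card_inj_eq h _ P rfl
    haveI : Finite (P →ₗ[R] P) := Finite.of_injective (fun f : P →ₗ[R] P => (f : P → P)) DFunLike.coe_injective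
    haveI : Nonempty {f : P →ₗ[R] P // Function.Injective f} := ⟨⟨LinearMap.id, fun _ _ h => h⟩⟩
    obtain ⟨f, hf⟩ := (Nat.card_ne_zero.1 (hc ▸ Nat.card_pos.ne')).1
    exact ⟨f, hf⟩
  obtain ⟨f, hf⟩ := hMN M N hcard
  obtain ⟨g, hg⟩ := hMN N M (fun X _ _ _ => (hcard X).symm)
  have hbij : Function.Bijective f := hf.bijective_of_nat_card_le (Nat.card_le_card_of_injective g hg)
  exact ⟨LinearEquiv.ofBijective f hbij⟩

end Groth.Agent.GalH1
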