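import Mathlib.LinearAlgebra.TensorProduct.Basis
import Mathlib.LinearAlgebra.FiniteDimensional.Basic
import Mathlib.LinearAlgebra.Dimension.Finite
import Mathlib.LinearAlgebra.Projection
import Mathlib.RepresentationTheory.Basic
import Mathlib.Algebra.Field.ZMod
import Mathlib.Tactic.LinearCombination
import Mathlib.Tactic.ByContra
import Mathlib.Tactic.Push
import Mathlib.Algebra.Module.ZMod

/-! Equivariant splittings of S²V → Λ²V over the field with two elements. -/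

set_option autoImplicit false
universe u v w

open scoped TensorProduct

namespace Groth.Agent.GalH1

variable {V : Type v} [AddCommGroup V] [Module (ZMod 2) V]

/-- The span of the squares. -/
def sqSpan (V : Type v) [AddCommGroup V] [Module (ZMod 2) V] : Submodule (ZMod 2) (V ⊗[ZMod 2] V) :=
  Submodule.span (ZMod 2) (Set.range fun v : V => v ⊗ₜ[ZMod 2] v)

/-- The span of the symmetrised tensors. -/
def symSpan (V : Type v) [AddCommGroup V] [Module (ZMod 2) V] : Submodule (ZMod 2) (V ⊗[ZMod 2] V) :=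
  Submodule.span (ZMod 2) (Set.range fun p : V × V => p.1 ⊗ₜ[ZMod 2] p.2 + p.2 ⊗ₜ[ZMod 2] p.1)

theorem zmod2_cases (a : ZMod 2) : a = 0 ∨ a = 1 := by revert a; decide

theorem add_self_eq_zero (x : V) : x + x = 0 := by
  rw [← one_smul (ZMod 2) x, ← add_smul, show (1 : ZMod 2) + 1 = 0 from by decide, zero_smul]

theorem exists_sq_sub_mem {t : V ⊗[ZMod 2] V} (ht : t ∈ sqSpan V) :
    ∃ v : V, t - v ⊗ₜ[ZMod 2] v ∈ symSpan V := by
  induction ht using Submodule.span_induction with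
  | mem x hx =>
    obtain ⟨v, rfl⟩ := hx
    exact ⟨v, by rw [sub_self]; exact zero_mem _⟩
  | zero => exact ⟨0, by rw [TensorProduct.tmul_zero, sub_self]; exact zero_mem _⟩
  | add x y _ _ hx hy =>
    obtain ⟨a, ha⟩ := hx
    obtain ⟨b, hb⟩ := hy
    refine ⟨a + b, ?_⟩
    have hab : a ⊗ₜ[ZMod 2] b + b ⊗ₜ[ZMod 2] a ∈ symSpan V := Submodule.subset_span ⟨(a, b), rfl⟩
    have h : x + y - (a + b) ⊗ₜ[ZMod 2] (a + b) =
        (x - a ⊗ₜ[ZMod 2] a) + (y - b ⊗ₜ[ZMod 2] b) - (a ⊗ₜ[ZMod 2] b + b ⊗ₜ[ZMod 2] a) := by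
      simp only [TensorProduct.tmul_add, TensorProduct.add_tmul]
      abel
    rw [h]
    exact sub_mem (add_mem ha hb) hab
  | smul c x _ hx =>
    obtain ⟨a, ha⟩ := hx
    rcases zmod2_cases c with rfl | rfl
    · exact ⟨0, by rw [zero_smul, TensorProduct.tmul_zero, sub_self]; exact zero_mem _⟩
    · exact ⟨a, by rwa [one_smul]⟩

variable {G : Type u} [Group G]

theorem splits_of_equivariant_mul (ρ : Representation (ZMod 2) G V) (μ : V →ₗ[ZMod 2] V →ₗ[ZMod 2] V)
    (hsymm : ∀ x y, μ x y = μ y x) (hsq : ∀ v, μ v v = v)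
    (heq : ∀ g x y, μ (ρ g x) (ρ g y) = ρ g (μ x y)) :
    ∃ W : Submodule (ZMod 2) (V ⊗[ZMod 2] V),
      (∀ g : G, ∀ w ∈ W, ρ.tprod ρ g w ∈ W) ∧ W ⊓ sqSpan V = symSpan V ∧ W ⊔ sqSpan V = ⊤ := by
  let L := TensorProduct.lift μ
  have hsym : symSpan V ≤ LinearMap.ker L := Submodule.span_le.2 (by
    rintro _ ⟨⟨x, y⟩, rfl⟩
    show L (x ⊗ₜ[ZMod 2] y + y ⊗ₜ[ZMod 2] x) = 0
    rw [map_add, TensorProduct.lift.tmul, TensorProduct.lift.tmul, hsymm x y, add_self_eq_zero])
  refine ⟨LinearMap.ker L, fun g w hw => ?_, le_antisymm ?_ (le_inf hsym ?_), eq_top_iff.2 fun t _ => ?_⟩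
  · have h : ∀ t, L (ρ.tprod ρ g t) = ρ g (L t) := fun t => by
      induction t using TensorProduct.induction_on with
      | zero => simp only [map_zero]
      | tmul x y => exact heq g x y
      | add s t hs ht => simp only [map_add, hs, ht]
    rw [LinearMap.mem_ker] at hw ⊢
    rw [h, hw, map_zero]
  · rintro t ⟨hL, ht⟩
    obtain ⟨v, hv⟩ := exists_sq_sub_mem ht
    have h0 : L (t - v ⊗ₜ[ZMod 2] v) = 0 := hsym hv
    rw [map_sub, TensorProduct.lift.tmul, hsq, show L t = 0 from hL, zero_sub, neg_eq_zero] at h0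
    rw [h0, TensorProduct.tmul_zero, sub_zero] at hv
    exact hv
  · refine Submodule.span_le.2 ?_
    rintro _ ⟨⟨x, y⟩, rfl⟩
    have h : x ⊗ₜ[ZMod 2] y + y ⊗ₜ[ZMod 2] x =
        (x + y) ⊗ₜ[ZMod 2] (x + y) - x ⊗ₜ[ZMod 2] x - y ⊗ₜ[ZMod 2] y := by
      simp only [TensorProduct.tmul_add, TensorProduct.add_tmul]
      abel
    rw [SetLike.mem_coe]
    show x ⊗ₜ[ZMod 2] y + y ⊗ₜ[ZMod 2] x ∈ sqSpan V
    rw [h]
    exact sub_mem (sub_mem (Submodule.subset_span ⟨_, rfl⟩) (Submodule.subset_span ⟨_, rfl⟩))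
      (Submodule.subset_span ⟨_, rfl⟩)
  · rw [← sub_add_cancel t ((L t) ⊗ₜ[ZMod 2] (L t))]
    refine Submodule.add_mem_sup ?_ (Submodule.subset_span ⟨_, rfl⟩)
    rw [LinearMap.mem_ker, map_sub, TensorProduct.lift.tmul, hsq, sub_self]

theorem splits_of_perm_basis (ρ : Representation (ZMod 2) G V) {ι : Type w}
    (b : Module.Basis ι (ZMod 2) V) (hb : ∀ g : G, ∀ i : ι, ∃ j : ι, ρ g (b i) = b j) :
    ∃ W : Submodule (ZMod 2) (V ⊗[ZMod 2] V),
      (∀ g : G, ∀ w ∈ W, ρ.tprod ρ g w ∈ W) ∧ W ⊓ sqSpan V = symSpan V ∧ W ⊔ sqSpan V = ⊤ := by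
  classical
  let μ : V →ₗ[ZMod 2] V →ₗ[ZMod 2] V :=
    b.constr (ZMod 2) fun i => b.constr (ZMod 2) fun j => if i = j then b i else 0
  have hμ : ∀ i j, μ (b i) (b j) = if i = j then b i else 0 := fun i j => by
    simp only [μ, Module.Basis.constr_basis]
  have hsymm : μ = μ.flip := b.ext fun i => b.ext fun j => by
    rw [LinearMap.flip_apply, hμ, hμ]
    split_ifs with h1 h2 h2
    · rw [h1]
    · exact absurd h1.symm h2
    · exact absurd h2.symm h1
    · rfl
  have hsq : ∀ v, μ v v = v := fun v => by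
    let d : V →+ V :=
      { toFun := fun v => μ v v
        map_zero' := by simp
        map_add' := fun x y => by
          simp only [map_add, LinearMap.add_apply]
          rw [LinearMap.congr_fun (LinearMap.congr_fun hsymm x) y, LinearMap.flip_apply]
          conv_rhs => rw [← add_zero (μ x x + μ y y), ← add_self_eq_zero (μ y x)]
          abel }
    exact LinearMap.congr_fun (b.ext (f₁ := d.toZModLinearMap 2) (f₂ := LinearMap.id) fun i =>
      (hμ i i).trans (if_pos rfl)) v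
  refine splits_of_equivariant_mul ρ μ (fun x y => LinearMap.congr_fun (LinearMap.congr_fun hsymm x) y) hsq
    fun g x y => ?_
  choose π hπ using hb g
  have hinj : Function.Injective π := fun i j h => b.injective
    ((ρ.apply_bijective g).1 (by rw [hπ, hπ, h]))
  have h : μ.compl₁₂ (ρ g) (ρ g) = μ.compr₂ (ρ g) := b.ext fun i => b.ext fun j => by
    simp only [LinearMap.compl₁₂_apply, LinearMap.compr₂_apply, hπ, hμ, hinj.eq_iff]
    split_ifs
    · rw [hπ]
    · rw [map_zero]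
  exact LinearMap.congr_fun (LinearMap.congr_fun h x) y

theorem splits_of_finrank_two (hV : Module.finrank (ZMod 2) V = 2) (ρ : Representation (ZMod 2) G V) :
    ∃ W : Submodule (ZMod 2) (V ⊗[ZMod 2] V),
      (∀ g : G, ∀ w ∈ W, ρ.tprod ρ g w ∈ W) ∧ W ⊓ sqSpan V = symSpan V ∧ W ⊔ sqSpan V = ⊤ := by
  classical
  have : Module.Finite (ZMod 2) V := Module.finite_of_finrank_eq_succ hV
  let e : V ≃ₗ[ZMod 2] (Fin 2 → ZMod 2) := (Module.finBasisOfFinrankEq (ZMod 2) V hV).equivFun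
  let m : V → V → V := fun x y => if x = y then x else if x = 0 ∨ y = 0 then 0 else x + y
  let m' : (Fin 2 → ZMod 2) → (Fin 2 → ZMod 2) → (Fin 2 → ZMod 2) :=
    fun x y => if x = y then x else if x = 0 ∨ y = 0 then 0 else x + y
  have he : ∀ x y, e (m x y) = m' (e x) (e y) := fun x y => by
    simp only [m, m', apply_ite e, map_add, map_zero, e.injective.eq_iff, LinearEquiv.map_eq_zero_iff]
  have hadd' : ∀ x y z : Fin 2 → ZMod 2, m' (x + y) z = m' x z + m' y z := by decide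
  have hsymm' : ∀ x y : Fin 2 → ZMod 2, m' x y = m' y x := by decide
  have hadd : ∀ x y z : V, m (x + y) z = m x z + m y z := fun x y z => e.injective (by
    simp only [map_add, he, hadd'])
  have hsymm : ∀ x y : V, m x y = m y x := fun x y => e.injective (by rw [he, he, hsymm'])
  have hsmul : ∀ (c : ZMod 2) (x y : V), m (c • x) y = c • m x y := fun c x y => by
    rcases zmod2_cases c with rfl | rfl
    · simp [m]
    · rw [one_smul, one_smul]
  let μ : V →ₗ[ZMod 2] V →ₗ[ZMod 2] V := LinearMap.mk₂ (ZMod 2) m hadd hsmul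
    (fun x y z => by rw [hsymm, hadd, hsymm y, hsymm z])
    (fun c x y => by rw [hsymm, hsmul, hsymm])
  refine splits_of_equivariant_mul ρ μ hsymm (fun v => if_pos rfl) fun g x y => ?_
  show m (ρ g x) (ρ g y) = ρ g (m x y)
  have hinj : Function.Injective (ρ g) := (ρ.apply_bijective g).1
  simp only [m, apply_ite (ρ g), map_add, map_zero, hinj.eq_iff, map_eq_zero_iff (ρ g) hinj]

theorem splits_of_card_two (hG : Nat.card G = 2) [Module.Finite (ZMod 2) V] (ρ : Representation (ZMod 2) G V) :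
    ∃ W : Submodule (ZMod 2) (V ⊗[ZMod 2] V),
      (∀ g : G, ∀ w ∈ W, ρ.tprod ρ g w ∈ W) ∧ W ⊓ sqSpan V = symSpan V ∧ W ⊔ sqSpan V = ⊤ := by
  classical
  obtain ⟨s, hs1, hsu⟩ := Nat.card_eq_two_iff' (1 : G) |>.1 hG
  have hall : ∀ g : G, g = 1 ∨ g = s := fun g => (em (g = 1)).imp_right (hsu g)
  have hss : ∀ v, ρ s (ρ s v) = v := fun v => by
    rcases hall (s * s) with h | h
    · rw [← Module.End.mul_apply, ← map_mul, h, map_one, Module.End.one_apply]
    · exact absurd (mul_left_cancel (h.trans (mul_one s).symm)) hs1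
  let N : V →ₗ[ZMod 2] V := LinearMap.id + ρ s
  have hN : ∀ v, N v = v + ρ s v := fun v => rfl
  have hN2 : ∀ v, N (N v) = 0 := fun v => by
    rw [hN, hN, map_add, hss, ← add_assoc, add_assoc v, add_self_eq_zero, add_zero, add_self_eq_zero]
  obtain ⟨U, hU⟩ := (LinearMap.ker N).exists_isCompl
  let I : Submodule (ZMod 2) (LinearMap.ker N) := (LinearMap.range N).comap (LinearMap.ker N).subtype
  obtain ⟨C, hC⟩ := I.exists_isCompl
  let Φ : (U × U) × C →ₗ[ZMod 2] V :=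
    (U.subtype.coprod (ρ s ∘ₗ U.subtype)).coprod ((LinearMap.ker N).subtype ∘ₗ C.subtype)
  have hΦ : ∀ a b c, Φ ((a, b), c) = (a : V) + ρ s b + ((c : LinearMap.ker N) : V) := fun a b c => rfl
  have hUinj : ∀ x ∈ U, N x = 0 → x = 0 := fun x hx h => (Submodule.disjoint_def.1 hU.disjoint) x h hx
  have hinj : Function.Injective Φ := (injective_iff_map_eq_zero Φ).2 (by
    rintro ⟨⟨a, b⟩, c⟩ h
    rw [hΦ] at h
    have h1 : N ((a : V) + b) = 0 := by
      have h2 := congrArg N h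
      rw [map_add, map_add, map_zero, show N ((c : LinearMap.ker N) : V) = 0 from (c : LinearMap.ker N).2,
        add_zero, hN (ρ s b), hss, add_comm (ρ s b) (b : V), ← hN, ← map_add] at h2
      exact h2
    have hab : (a : V) = b := by
      have h3 := hUinj _ (add_mem a.2 b.2) h1
      rw [← add_zero (a : V), ← add_self_eq_zero (b : V), ← add_assoc, h3, zero_add]
    rw [hab, ← hN] at h
    have hcI : (c : LinearMap.ker N) ∈ I := ⟨-(b : V), by
      rw [map_neg]; exact (eq_neg_of_add_eq_zero_right h).symm⟩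
    have hc0 : (c : LinearMap.ker N) = 0 := (Submodule.disjoint_def.1 hC.disjoint) _ hcI c.2
    rw [hc0, ZeroMemClass.coe_zero, add_zero] at h
    have hb0 := hUinj _ b.2 h
    refine Prod.ext (Prod.ext (Subtype.ext ?_) (Subtype.ext hb0)) (Subtype.ext hc0)
    show (a : V) = 0
    rw [hab, hb0])
  have hsurj : Function.Surjective Φ := fun v => by
    obtain ⟨κ, hκ, a, ha, rfl⟩ := Submodule.mem_sup.1 (hU.codisjoint.eq_top ▸ Submodule.mem_top (x := v))
    obtain ⟨i, hi, c, hc, hic⟩ := Submodule.mem_sup.1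
      (hC.codisjoint.eq_top ▸ Submodule.mem_top (x := (⟨κ, hκ⟩ : LinearMap.ker N)))
    obtain ⟨w, hw⟩ := hi
    obtain ⟨κ', hκ', b, hb, rfl⟩ := Submodule.mem_sup.1 (hU.codisjoint.eq_top ▸ Submodule.mem_top (x := w))
    refine ⟨((⟨a, ha⟩ + ⟨b, hb⟩, ⟨b, hb⟩), ⟨c, hc⟩), ?_⟩
    rw [map_add, show N κ' = 0 from hκ', zero_add] at hw
    have hk : κ = N b + (c : V) := by
      rw [hw]; exact (congrArg Subtype.val hic).symm
    rw [hΦ, hk, hN]
    show a + b + ρ s b + (c : V) = b + ρ s b + (c : V) + a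
    abel
  let bU := Module.Free.chooseBasis (ZMod 2) U
  let bC := Module.Free.chooseBasis (ZMod 2) C
  let b := ((bU.prod bU).prod bC).map (LinearEquiv.ofBijective Φ ⟨hinj, hsurj⟩)
  refine splits_of_perm_basis ρ b fun g i => ?_
  rcases hall g with rfl | rfl
  · exact ⟨i, by rw [map_one]; rfl⟩
  · rcases i with (i | i) | i
    · refine ⟨Sum.inl (Sum.inr i), ?_⟩
      simp [b]
      show ρ g (Φ ((bU i, 0), 0)) = Φ ((0, bU i), 0)
      rw [hΦ, hΦ]
      simp
    · refine ⟨Sum.inl (Sum.inl i), ?_⟩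
      simp [b]
      show ρ g (Φ ((0, bU i), 0)) = Φ ((bU i, 0), 0)
      rw [hΦ, hΦ]
      simp [hss]
    · refine ⟨Sum.inr i, ?_⟩
      have h : N ((bC i : LinearMap.ker N) : V) = 0 := (bC i : LinearMap.ker N).2
      rw [hN] at h
      simp [b]
      show ρ g (Φ ((0, 0), bC i)) = Φ ((0, 0), bC i)
      rw [hΦ]
      simp only [ZeroMemClass.coe_zero, map_zero, zero_add]
      rw [← add_zero (ρ g _), ← add_self_eq_zero ((bC i : LinearMap.ker N) : V), ← add_assoc, add_comm (ρ g _), h,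
        zero_add]

theorem invariant_lifts_of_finrank_three (hV : Module.finrank (ZMod 2) V = 3)
    (ρ : Representation (ZMod 2) G V) (t : V ⊗[ZMod 2] V)
    (ht : ∀ g : G, ρ.tprod ρ g t - t ∈ sqSpan V) :
    ∃ t' : V ⊗[ZMod 2] V, t' - t ∈ sqSpan V ∧ ∀ g : G, ρ.tprod ρ g t' - t' ∈ symSpan V := by
  classical
  have : Module.Finite (ZMod 2) V := Module.finite_of_finrank_eq_succ hV
  let b := Module.finBasisOfFinrankEq (ZMod 2) V hV
  let P : Module.Dual (ZMod 2) V → Module.Dual (ZMod 2) V → V ⊗[ZMod 2] V →ₗ[ZMod 2] ZMod 2 :=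
    fun f g => TensorProduct.lift ((LinearMap.mul (ZMod 2) (ZMod 2)).compl₁₂ f g)
  have hP : ∀ f g x y, P f g (x ⊗ₜ[ZMod 2] y) = f x * g y := fun f g x y => rfl
  let c : V ⊗[ZMod 2] V → Fin 3 → Fin 3 → ZMod 2 := fun t i j => (b.tensorProduct b).repr t (i, j)
  have hdec : ∀ t, t = ∑ i, ∑ j, c t i j • b i ⊗ₜ[ZMod 2] b j := fun t => by
    conv_lhs => rw [← (b.tensorProduct b).sum_repr t]
    rw [Fintype.sum_prod_type]
    exact Finset.sum_congr rfl fun i _ => Finset.sum_congr rfl fun j _ => by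
      rw [Module.Basis.tensorProduct_apply]
  have hPc : ∀ f g t, P f g t = ∑ i, ∑ j, c t i j * (f (b i) * g (b j)) := fun f g t => by
    conv_lhs => rw [hdec t]
    simp only [map_sum, map_smul, hP, smul_eq_mul]
  have hdiag : ∀ t f, (∀ x, P f f x = P f f x) ∧ P f f t = ∑ i, c t i i * f (b i) +
      ((c t 0 1 + c t 1 0) * (f (b 0) * f (b 1)) + (c t 0 2 + c t 2 0) * (f (b 0) * f (b 2)) +
        (c t 1 2 + c t 2 1) * (f (b 1) * f (b 2))) := fun t f => ⟨fun _ => rfl, by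
    have hsq : ∀ a : ZMod 2, a * a = a := by decide
    rw [hPc]
    simp only [Fin.sum_univ_three, hsq]
    ring⟩
  have hmem : ∀ t, (∀ f, P f f t = 0) → t ∈ symSpan V := by
    intro t h
    have h' : ∀ a : Fin 3 → ZMod 2, ∑ i, c t i i * a i + ((c t 0 1 + c t 1 0) * (a 0 * a 1) +
        (c t 0 2 + c t 2 0) * (a 0 * a 2) + (c t 1 2 + c t 2 1) * (a 1 * a 2)) = 0 := fun a => by
      have h1 := h (b.constr (ZMod 2) a)
      rw [(hdiag t _).2] at h1
      simpa only [Module.Basis.constr_basis] using h1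
    have e0 := h' ![1, 0, 0]
    have e1 := h' ![0, 1, 0]
    have e2 := h' ![0, 0, 1]
    have e01 := h' ![1, 1, 0]
    have e02 := h' ![1, 0, 1]
    have e12 := h' ![0, 1, 1]
    simp [Fin.sum_univ_three] at e0 e1 e2 e01 e02 e12
    simp only [e0, e1, e2, zero_add] at e01 e02 e12
    have hz : ∀ x y : ZMod 2, x + y = 0 → y = x := by decide
    rw [hdec t]
    simp only [Fin.sum_univ_three, e0, e1, e2, hz _ _ e01, hz _ _ e02, hz _ _ e12, zero_smul, zero_add, add_zero]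
    have hs : ∀ i j, c t i j • (b i ⊗ₜ[ZMod 2] b j + b j ⊗ₜ[ZMod 2] b i) ∈ symSpan V := fun i j =>
      Submodule.smul_mem _ _ (Submodule.subset_span ⟨(b i, b j), rfl⟩)
    convert add_mem (add_mem (hs 0 1) (hs 0 2)) (hs 1 2) using 1
    simp only [smul_add]
    abel
  let Ω : Module.Dual (ZMod 2) V → Module.Dual (ZMod 2) V → V ⊗[ZMod 2] V →ₗ[ZMod 2] ZMod 2 :=
    fun f g => P f g + P g f
  have hΩ0 : ∀ x ∈ sqSpan V, ∀ f g, Ω f g x = 0 := fun x hx f g => by
    have hle : sqSpan V ≤ LinearMap.ker (Ω f g) := Submodule.span_le.2 (by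
      rintro _ ⟨v, rfl⟩
      show P f g (v ⊗ₜ[ZMod 2] v) + P g f (v ⊗ₜ[ZMod 2] v) = 0
      rw [hP, hP, mul_comm, add_self_eq_zero])
    exact hle hx
  let w : Fin 3 → Fin 3 → ZMod 2 := fun i j => c t i j + c t j i
  let ind : Fin 3 → ZMod 2 := fun i =>
    if (w i 0 ≠ 0 ∧ i ≠ 0) ∨ (w i 1 ≠ 0 ∧ i ≠ 1) ∨ (w i 2 ≠ 0 ∧ i ≠ 2) then 1 else 0
  let t' := t + ∑ i, (c t i i + ind i) • b i ⊗ₜ[ZMod 2] b i
  have ht' : t' - t ∈ sqSpan V := by
    rw [add_sub_cancel_left]
    exact Submodule.sum_mem _ fun i _ => Submodule.smul_mem _ _ (Submodule.subset_span ⟨_, rfl⟩)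
  have key : ∀ f, P f f t' = if ∃ g, Ω f g t ≠ 0 then 1 else 0 := by
    intro f
    have hex : (∃ g, Ω f g t ≠ 0) ↔ (f (b 1) * w 0 1 + f (b 2) * w 0 2 ≠ 0 ∨
        f (b 0) * w 0 1 + f (b 2) * w 1 2 ≠ 0 ∨ f (b 0) * w 0 2 + f (b 1) * w 1 2 ≠ 0) := by
      have hval : ∀ g, Ω f g t = g (b 0) * (f (b 1) * w 0 1 + f (b 2) * w 0 2) +
          g (b 1) * (f (b 0) * w 0 1 + f (b 2) * w 1 2) + g (b 2) * (f (b 0) * w 0 2 + f (b 1) * w 1 2) := fun g => by
        show P f g t + P g f t = _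
        rw [hPc, hPc]
        simp only [Fin.sum_univ_three, w]
        have hc : ∀ z : ZMod 2, z + z = 0 := by decide
        linear_combination f (b 0) * g (b 0) * hc (c t 0 0) + f (b 1) * g (b 1) * hc (c t 1 1) +
          f (b 2) * g (b 2) * hc (c t 2 2)
      constructor
      · rintro ⟨g, hg⟩
        by_contra hne
        push Not at hne
        rw [hval, hne.1, hne.2.1, hne.2.2] at hg
        simp at hg
      · intro h
        rcases h with h | h | h
        · exact ⟨b.coord 0, by simpa [hval, Finsupp.single_apply] using h⟩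
        · exact ⟨b.coord 1, by simpa [hval, Finsupp.single_apply] using h⟩
        · exact ⟨b.coord 2, by simpa [hval, Finsupp.single_apply] using h⟩
    rw [map_add, (hdiag t f).2, map_sum, if_congr hex rfl rfl]
    have hsq : ∀ a : ZMod 2, a * a = a := by decide
    simp only [map_smul, hP, hsq, smul_eq_mul, Fin.sum_univ_three, add_mul]
    have hfin : ∀ a0 a1 a2 p q r : ZMod 2,
        (if p ≠ 0 ∨ q ≠ 0 then (1 : ZMod 2) else 0) * a0 + (if p ≠ 0 ∨ r ≠ 0 then (1 : ZMod 2) else 0) * a1 +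
          (if q ≠ 0 ∨ r ≠ 0 then (1 : ZMod 2) else 0) * a2 + (p * (a0 * a1) + q * (a0 * a2) + r * (a1 * a2)) =
        if a1 * p + a2 * q ≠ 0 ∨ a0 * p + a2 * r ≠ 0 ∨ a0 * q + a1 * r ≠ 0 then 1 else 0 := by decide
    rw [← hfin]
    have hw : ∀ i j, w j i = w i j := fun i j => add_comm _ _
    have h0 : ind 0 = if w 0 1 ≠ 0 ∨ w 0 2 ≠ 0 then 1 else 0 := by simp [ind]
    have h1 : ind 1 = if w 0 1 ≠ 0 ∨ w 1 2 ≠ 0 then 1 else 0 := by simp [ind, hw 0 1]
    have h2 : ind 2 = if w 0 2 ≠ 0 ∨ w 1 2 ≠ 0 then 1 else 0 := by simp [ind, hw 0 2, hw 1 2]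
    rw [← h0, ← h1, ← h2]
    have hc : ∀ z : ZMod 2, z + z = 0 := by decide
    simp only [w]
    linear_combination f (b 0) * hc (c t 0 0) + f (b 1) * hc (c t 1 1) + f (b 2) * hc (c t 2 2)
  refine ⟨t', ht', fun g => hmem _ fun f => ?_⟩
  have hpull : ∀ (f h : Module.Dual (ZMod 2) V) (x : V ⊗[ZMod 2] V),
      P f h (ρ.tprod ρ g x) = P (f ∘ₗ ρ g) (h ∘ₗ ρ g) x := fun f h x => by
    induction x using TensorProduct.induction_on with
    | zero => simp only [map_zero]
    | tmul x y => rfl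
    | add s t hs ht => simp only [map_add, hs, ht]
  rw [map_sub, hpull, key, key, sub_eq_zero]
  refine if_congr ?_ rfl rfl
  have hinv : ∀ h, Ω (f ∘ₗ ρ g) (h ∘ₗ ρ g) t = Ω f h t := fun h => by
    have h0 := hΩ0 _ (ht g) f h
    rw [map_sub, sub_eq_zero] at h0
    rw [← h0]
    show _ = P f h _ + P h f _
    rw [hpull, hpull]
    rfl
  constructor
  · rintro ⟨h, hh⟩
    refine ⟨h ∘ₗ ρ g⁻¹, ?_⟩
    rw [← hinv, LinearMap.comp_assoc, ← Module.End.mul_eq_comp, ← map_mul, inv_mul_cancel, map_one]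
    exact hh
  · rintro ⟨h, hh⟩
    exact ⟨h ∘ₗ ρ g, by rw [hinv]; exact hh⟩

end Groth.Agent.GalH1
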