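import Groth.Agent.GalH1.CardKills
import Mathlib.RepresentationTheory.Homological.GroupCohomology.Functoriality
import Mathlib.Algebra.Homology.ShortComplex.ModuleCat

/-! Higher cohomology along a surjection with uniquely divisible kernel. -/

set_option autoImplicit false
universe u

open CategoryTheory

namespace Groth.Agent.GalH1

variable {k G : Type u} [CommRing k] [Group G]

theorem hom_d {A B : Rep.{u} k G} (φ : A ⟶ B) {n : ℕ} (f : (Fin n → G) → A) (y : Fin (n + 1) → G) :
    φ.hom (_root_.inhomogeneousCochains.d A n f y) = _root_.inhomogeneousCochains.d B n (fun x => φ.hom (f x)) y := by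
  simp only [_root_.inhomogeneousCochains.d_hom_apply, map_add, map_sum, map_smul, Rep.hom_comm_apply]

theorem d_iCocycles (A : Rep.{u} k G) (n : ℕ) (z : groupCohomology.cocycles A n) (y : Fin (n + 1) → G) :
    _root_.inhomogeneousCochains.d A n (groupCohomology.iCocycles A n z) y = 0 := by
  have h := ConcreteCategory.congr_hom
    ((groupCohomology.inhomogeneousCochains A).iCycles_d n (n + 1)) z
  rw [groupCohomology.inhomogeneousCochains.d_def] at h
  exact congrFun h y

theorem π_eq_zero_iff (A : Rep.{u} k G) (n : ℕ) (z : groupCohomology.cocycles A (n + 1)) :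
    groupCohomology.π A (n + 1) z = 0 ↔ ∃ e : (Fin n → G) → A,
      ∀ y, _root_.inhomogeneousCochains.d A n e y = groupCohomology.iCocycles A (n + 1) z y := by
  have hto : ∀ e, groupCohomology.iCocycles A (n + 1) (groupCohomology.toCocycles A n (n + 1) e) =
      _root_.inhomogeneousCochains.d A n e := fun e => by
    have h := ConcreteCategory.congr_hom ((groupCohomology.inhomogeneousCochains A).toCycles_i n (n + 1)) e
    rw [groupCohomology.inhomogeneousCochains.d_def] at h
    exact h
  constructor
  · intro hz
    have hex : (ShortComplex.mk _ _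
        ((groupCohomology.inhomogeneousCochains A).toCycles_comp_homologyπ n (n + 1))).Exact :=
      ShortComplex.exact_of_g_is_cokernel _
        ((groupCohomology.inhomogeneousCochains A).homologyIsCokernel n (n + 1) (by simp))
    obtain ⟨e, he⟩ := (ShortComplex.moduleCat_exact_iff _).mp hex z hz
    exact ⟨e, fun y => by rw [← hto, ← he]⟩
  · rintro ⟨e, he⟩
    have : groupCohomology.toCocycles A n (n + 1) e = z :=
      (ModuleCat.mono_iff_injective (groupCohomology.iCocycles A (n + 1))).1 inferInstance
        ((hto e).trans (funext he))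
    rw [← this]
    exact ConcreteCategory.congr_hom
      ((groupCohomology.inhomogeneousCochains A).toCycles_comp_homologyπ n (n + 1)) e

theorem iCocycles_map {A B : Rep.{u} k G} (φ : A ⟶ B) (n : ℕ) (z : groupCohomology.cocycles A n) (y : Fin n → G) :
    groupCohomology.iCocycles B n (groupCohomology.cocyclesMap (MonoidHom.id G) φ n z) y =
      φ.hom (groupCohomology.iCocycles A n z y) :=
  congrFun (ConcreteCategory.congr_hom
    (HomologicalComplex.cyclesMap_i (groupCohomology.cochainsMap (MonoidHom.id G) φ) n) z) y

theorem bijective_map [Fintype G] {A B : Rep.{u} k G} (φ : A ⟶ B) (hs : Function.Surjective φ.hom)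
    (huniq : ∀ a : A, φ.hom a = 0 → ∃! b : A, φ.hom b = 0 ∧ Fintype.card G • b = a) (n : ℕ) :
    Function.Bijective (groupCohomology.map (MonoidHom.id G) φ (n + 1)).hom := by
  let N := Fintype.card G
  -- kernel-valued cocycles are coboundaries
  have key : ∀ (m : ℕ) (c : (Fin (m + 1) → G) → A), (∀ y, φ.hom (c y) = 0) →
      (∀ y, _root_.inhomogeneousCochains.d A (m + 1) c y = 0) →
      ∃ e : (Fin m → G) → A, (∀ y, φ.hom (e y) = 0) ∧ ∀ y, _root_.inhomogeneousCochains.d A m e y = c y := by
    intro m c hc hdc
    choose g hg using fun y => (huniq (c y) (hc y)).exists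
    have hdg : ∀ y, _root_.inhomogeneousCochains.d A (m + 1) g y = 0 := fun y => by
      refine (huniq 0 (map_zero _)).unique ⟨?_, ?_⟩ ⟨map_zero _, smul_zero _⟩
      · rw [hom_d φ, show (fun x => φ.hom (g x)) = 0 from funext fun x => (hg x).1, map_zero]
        rfl
      · rw [← Pi.smul_apply, ← map_nsmul, show Fintype.card G • g = c from funext fun x => (hg x).2, hdc]
    refine ⟨-((-1 : k) ^ (m + 2)) • sumLast A (fun _ => LinearMap.id) g, fun y => ?_, fun y => ?_⟩
    · show φ.hom (-((-1 : k) ^ (m + 2)) • sumLast A (fun _ => LinearMap.id) g y) = 0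
      rw [map_smul, sumLast, map_sum]
      simp only [LinearMap.id_apply, (hg _).1, Finset.sum_const_zero, smul_zero]
    · have hsum := d_sumLast_add A (fun _ => LinearMap.id) (fun _ _ _ => rfl) g hdg y
      rw [add_eq_zero_iff_eq_neg] at hsum
      rw [map_smul, Pi.smul_apply, hsum, smul_neg, neg_smul, neg_neg, smul_smul, ← mul_pow, neg_one_mul,
        neg_neg, one_pow, one_smul]
      simp only [LinearMap.id_apply, Finset.sum_const, Finset.card_univ]
      exact (hg y).2
  have hmap : ∀ z, (groupCohomology.map (MonoidHom.id G) φ (n + 1)).hom (groupCohomology.π A (n + 1) z) =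
      groupCohomology.π B (n + 1) (groupCohomology.cocyclesMap (MonoidHom.id G) φ (n + 1) z) := fun z =>
    ConcreteCategory.congr_hom (groupCohomology.π_map (MonoidHom.id G) φ (n + 1)) z
  refine ⟨(injective_iff_map_eq_zero _).mpr fun x hx => ?_, fun w => ?_⟩
  · induction x using groupCohomology_induction_on with
    | h z =>
      rw [hmap, π_eq_zero_iff] at hx
      obtain ⟨e, he⟩ := hx
      choose e' he' using fun y => hs (e y)
      let c : (Fin (n + 1) → G) → A := groupCohomology.iCocycles A (n + 1) z - _root_.inhomogeneousCochains.d A n e'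
      obtain ⟨b, -, hb⟩ := key n c (fun y => by
          show φ.hom (groupCohomology.iCocycles A (n + 1) z y - _root_.inhomogeneousCochains.d A n e' y) = 0
          rw [map_sub, hom_d φ, show (fun x => φ.hom (e' x)) = e from funext he', he]
          exact sub_eq_zero.mpr (iCocycles_map φ (n + 1) z y).symm)
        (fun y => by
          rw [map_sub, Pi.sub_apply, d_iCocycles, zero_sub, neg_eq_zero]
          have h := ConcreteCategory.congr_hom (groupCohomology.inhomogeneousCochains.d_comp_d (A := A) (n := n)) e'
          exact congrFun h y)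
      refine (π_eq_zero_iff A n z).mpr ⟨e' + b, fun y => ?_⟩
      rw [map_add, Pi.add_apply, hb]
      exact add_sub_cancel _ _
  · induction w using groupCohomology_induction_on with
    | h z =>
      choose f hf using fun y => hs (groupCohomology.iCocycles B (n + 1) z y)
      obtain ⟨b, hb0, hb⟩ := key (n + 1) (_root_.inhomogeneousCochains.d A (n + 1) f) (fun y => by
          rw [hom_d φ, show (fun x => φ.hom (f x)) = _ from funext hf]
          exact d_iCocycles B (n + 1) z y)
        (fun y => congrFun (ConcreteCategory.congr_hom (groupCohomology.inhomogeneousCochains.d_comp_d (A := A) (n := n + 1)) f) y)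
      have hd : _root_.inhomogeneousCochains.d A (n + 1) (f - b) = 0 := funext fun y => by
        rw [map_sub, Pi.sub_apply, hb, sub_self]
        rfl
      refine ⟨groupCohomology.π A (n + 1) (groupCohomology.cocyclesMk (f - b) hd), ?_⟩
      rw [hmap]
      refine congrArg _ ((ModuleCat.mono_iff_injective (groupCohomology.iCocycles B (n + 1))).1 inferInstance
        (funext fun y => ?_))
      rw [iCocycles_map, groupCohomology.iCocycles_mk, Pi.sub_apply, map_sub, hb0, sub_zero, hf]

end Groth.Agent.GalH1
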