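import Mathlib.RingTheory.TensorProduct.Maps
import Mathlib.RingTheory.TensorProduct.Free
import Mathlib.LinearAlgebra.Matrix.Determinant.Basic
import Mathlib.Algebra.MvPolynomial.Funext
import Mathlib.LinearAlgebra.FiniteDimensional.Basic
import Mathlib.LinearAlgebra.Determinant
import Groth.Prelude.Def_GSzCSA
import Groth.Agent.GalH1.Descent
import Groth.Agent.GalH1.Lovasz

/-! Hilbert 90 for the units of a finite dimensional algebra. -/

set_option autoImplicit false
set_option linter.unusedSectionVars false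
set_option linter.style.haveILetI false
universe u v w

open scoped TensorProduct

attribute [local instance] CSAGal.tensorAction GpH1.unitsAction

namespace Groth.Agent.GalH1

variable {k : Type u} {K : Type v} [Field k] [Field K] [Algebra k K]
  {A : Type w} [Ring A] [Algebra k A]

/-- A unit cocycle, acting by left multiplication. -/
def unitsToLin (a : GpH1.OneCocycle (K ≃ₐ[k] K) (K ⊗[k] A)ˣ) :
    GpH1.OneCocycle (K ≃ₐ[k] K) (K ⊗[k] A ≃ₗ[K] K ⊗[k] A) :=
  ⟨fun σ =>
    { toFun := fun x => (a σ : K ⊗[k] A) * x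
      map_add' := fun x y => mul_add _ _ _
      map_smul' := fun c x => mul_smul_comm c _ _
      invFun := fun x => ((a σ)⁻¹ : (K ⊗[k] A)ˣ) * x
      left_inv := fun x => Units.inv_mul_cancel_left _ x
      right_inv := fun x => Units.mul_inv_cancel_left _ x },
    fun σ τ => LinearEquiv.ext fun x => by
      show (a (σ * τ) : K ⊗[k] A) * x = (a σ : K ⊗[k] A) * σ • ((a τ : K ⊗[k] A) * σ⁻¹ • x)
      have h : (a (σ * τ) : K ⊗[k] A) = a σ * σ • (a τ : K ⊗[k] A) := congrArg Units.val (a.2 σ τ)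
      rw [h, smul_mul', smul_inv_smul, mul_assoc]⟩

theorem unitsToLin_apply (a : GpH1.OneCocycle (K ≃ₐ[k] K) (K ⊗[k] A)ˣ) (σ : K ≃ₐ[k] K) (x : K ⊗[k] A) :
    (unitsToLin a).1 σ x = (a σ : K ⊗[k] A) * x := rfl

variable [FiniteDimensional k A]

theorem exists_unit_of_bijective_mul {w : K ⊗[k] A} (h : Function.Surjective (w * ·)) : IsUnit w := by
  have hinj : Function.Injective (LinearMap.mulLeft K w) := LinearMap.injective_iff_surjective.2 h
  obtain ⟨v, hv⟩ := h 1
  have hv' : w * v = 1 := hv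
  refine ⟨⟨w, v, hv', hinj ?_⟩, rfl⟩
  show w * (v * w) = w * 1
  rw [← mul_assoc, hv', one_mul, mul_one]

variable [FiniteDimensional k K] [IsGalois k K]

theorem exists_fixed_isUnit (a : GpH1.OneCocycle (K ≃ₐ[k] K) (K ⊗[k] A)ˣ) :
    ∃ w : K ⊗[k] A, IsUnit w ∧ ∀ σ : K ≃ₐ[k] K, (a σ : K ⊗[k] A) * σ • w = w := by
  classical
  let a' := unitsToLin a
  let W := GalDesc.fixedSub a'
  haveI : Module.Finite k (K ⊗[k] A) := Module.Finite.tensorProduct k K A
  suffices h : ∃ w ∈ W, IsUnit w by
    obtain ⟨w, hw, hu⟩ := h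
    exact ⟨w, hu, fun σ => hw σ⟩
  let D := descEquiv a' W.subtype Subtype.val_injective W.range_subtype
  rcases finite_or_infinite k with hfin | hinf
  · haveI : Finite A := Module.finite_of_finite k
    haveI : Finite (K ⊗[k] A) := Module.finite_of_finite k
    letI : Module Aᵐᵒᵖ (K ⊗[k] A) := Module.compHom (K ⊗[k] A)
      ((Algebra.TensorProduct.includeRight : A →ₐ[k] K ⊗[k] A).toRingHom.op)
    have hsmul : ∀ (x : Aᵐᵒᵖ) (t : K ⊗[k] A), x • t = t * ((1 : K) ⊗ₜ[k] x.unop) := fun _ _ => rfl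
    let W1 : Submodule Aᵐᵒᵖ (K ⊗[k] A) :=
      { carrier := W, add_mem' := W.add_mem, zero_mem' := W.zero_mem
        smul_mem' := fun x t ht σ => by
          rw [unitsToLin_apply, hsmul, smul_mul', smul_one_tmul, ← mul_assoc]
          exact congrArg (· * _) (ht σ) }
    let W0 : Submodule Aᵐᵒᵖ (K ⊗[k] A) :=
      { carrier := GalDesc.fixedSub (unitsToLin (GpH1.OneCocycle.trivial : GpH1.OneCocycle (K ≃ₐ[k] K) (K ⊗[k] A)ˣ))
        add_mem' := Submodule.add_mem _, zero_mem' := Submodule.zero_mem _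
        smul_mem' := fun x t ht σ => by
          rw [unitsToLin_apply, hsmul, smul_mul', smul_one_tmul, ← mul_assoc]
          exact congrArg (· * _) (ht σ) }
    let b := Module.finBasis k K
    haveI : Nonempty (Fin (Module.finrank k K)) := ⟨⟨0, Module.finrank_pos⟩⟩
    have hphi : ∀ (c : GpH1.OneCocycle (K ≃ₐ[k] K) (K ⊗[k] A)ˣ) (U : Submodule Aᵐᵒᵖ (K ⊗[k] A)),
        (∀ t, t ∈ U ↔ t ∈ GalDesc.fixedSub (unitsToLin c)) →
        ∃ e : (Fin (Module.finrank k K) → U) ≃ₗ[Aᵐᵒᵖ] K ⊗[k] A, True := fun c U hU => by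
      let V := GalDesc.fixedSub (unitsToLin c)
      let Ψ : (Fin (Module.finrank k K) → U) →ₗ[Aᵐᵒᵖ] K ⊗[k] A :=
        { toFun := fun f => ∑ i, b i • ((f i : U) : K ⊗[k] A)
          map_add' := fun f g => by simp [smul_add, Finset.sum_add_distrib]
          map_smul' := fun x f => by
            simp only [Pi.smul_apply, SetLike.val_smul, hsmul, RingHom.id_apply, Finset.sum_mul, smul_mul_assoc] }
      let DV := descEquiv (unitsToLin c) V.subtype Subtype.val_injective V.range_subtype
      let g : (Fin (Module.finrank k K) → U) ≃ (K ⊗[k] V) :=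
        (Equiv.piCongrRight fun _ => Equiv.subtypeEquivRight hU).trans
          ((Finsupp.linearEquivFunOnFinite k V (Fin (Module.finrank k K))).symm.toEquiv.trans
            (TensorProduct.equivFinsuppOfBasisLeft b).symm.toEquiv)
      have hg : ∀ f, Ψ f = DV (g f) := fun f => by
        show ∑ i, b i • ((f i : U) : K ⊗[k] A) = DV ((TensorProduct.equivFinsuppOfBasisLeft b).symm _)
        rw [TensorProduct.equivFinsuppOfBasisLeft_symm_apply, Finsupp.sum_fintype _ _ (fun i => by simp), map_sum]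
        refine Finset.sum_congr rfl fun i _ => ?_
        rw [show ((Finsupp.linearEquivFunOnFinite k (↥V) (Fin (Module.finrank k K))).symm.toEquiv
            ((Equiv.piCongrRight fun x => Equiv.subtypeEquivRight hU) f)) i = (⟨(f i).1, (hU _).1 (f i).2⟩ : V) from
          Subtype.ext (by simp)]
        exact (descEquiv_tmul (unitsToLin c) V.subtype Subtype.val_injective V.range_subtype (b i)
          ⟨(f i).1, (hU _).1 (f i).2⟩).symm
      refine ⟨LinearEquiv.ofBijective Ψ ?_, trivial⟩
      rw [show (Ψ : (Fin (Module.finrank k K) → U) → K ⊗[k] A) = DV ∘ g from funext hg]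
      exact DV.bijective.comp g.bijective
    obtain ⟨e1, -⟩ := hphi a W1 (fun _ => Iff.rfl)
    obtain ⟨e0, -⟩ := hphi GpH1.OneCocycle.trivial W0 (fun _ => Iff.rfl)
    obtain ⟨θ⟩ := nonempty_linearEquiv_of_pi (e1.trans e0.symm)
    have h1 : (1 : K ⊗[k] A) ∈ W0 := fun σ => by
      rw [unitsToLin_apply, smul_one]
      exact mul_one _
    let w : W1 := θ.symm ⟨1, h1⟩
    refine ⟨(w : K ⊗[k] A), w.2, exists_unit_of_bijective_mul fun y => ?_⟩
    obtain ⟨t, rfl⟩ := D.surjective y
    induction t using TensorProduct.induction_on with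
    | zero => exact ⟨0, by simp⟩
    | tmul c v =>
      obtain ⟨z, hz⟩ := exists_eq_one_tmul (t := ((θ ⟨v.1, v.2⟩ : W0) : K ⊗[k] A))
        (fun σ => by
          have h := (θ ⟨v.1, v.2⟩).2 σ
          rw [unitsToLin_apply] at h
          exact (one_mul _).symm.trans h)
      refine ⟨c ⊗ₜ[k] z, ?_⟩
      show (w : K ⊗[k] A) * (c ⊗ₜ[k] z) = D (c ⊗ₜ[k] v)
      rw [show D (c ⊗ₜ[k] v) = c • (v : K ⊗[k] A) from descEquiv_tmul a' _ _ _ c v]
      have hv : (MulOpposite.op z) • w = (⟨v.1, v.2⟩ : W1) := θ.injective (Subtype.ext (by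
        rw [map_smul, θ.apply_symm_apply, SetLike.val_smul, hsmul, hz, one_mul]
        rfl))
      have hc : c ⊗ₜ[k] z = c • ((1 : K) ⊗ₜ[k] z) := by rw [TensorProduct.smul_tmul', smul_eq_mul, mul_one]
      rw [hc, mul_smul_comm]
      exact congrArg (c • ·) (congrArg Subtype.val hv)
    | add s t hs ht =>
      obtain ⟨p, hp⟩ := hs
      obtain ⟨q, hq⟩ := ht
      refine ⟨p + q, ?_⟩
      show (w : K ⊗[k] A) * (p + q) = D (s + t)
      rw [mul_add, map_add, ← hp, ← hq]
  · let bA := Module.finBasis K (K ⊗[k] A)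
    let bW := Module.finBasis k W
    let M : (K ⊗[k] A) →ₗ[K] Matrix (Fin (Module.finrank K (K ⊗[k] A))) (Fin (Module.finrank K (K ⊗[k] A))) K :=
      (LinearMap.toMatrix bA bA).toLinearMap ∘ₗ LinearMap.mul K (K ⊗[k] A)
    let P : MvPolynomial (Fin (Module.finrank k W)) K :=
      Matrix.det (∑ i, (MvPolynomial.X i : MvPolynomial (Fin (Module.finrank k W)) K) • (M (bW i : K ⊗[k] A)).map (fun x => MvPolynomial.C (σ := Fin (Module.finrank k W)) x))
    have hP : ∀ c : Fin (Module.finrank k W) → K,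
        MvPolynomial.eval c P = Matrix.det (M (∑ i, c i • (bW i : K ⊗[k] A))) := fun c => by
      show MvPolynomial.eval c (Matrix.det _) = _
      rw [RingHom.map_det, map_sum M]
      congr 1
      ext r s
      simp only [RingHom.mapMatrix_apply, Matrix.map_apply, Matrix.sum_apply, Matrix.smul_apply, smul_eq_mul,
        map_sum, map_mul, MvPolynomial.eval_X, MvPolynomial.eval_C, map_smul]
    have hne : P ≠ 0 := by
      obtain ⟨t, ht⟩ := D.surjective 1
      let bK := bW.baseChange K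
      intro h0
      have h1 := hP (bK.repr t)
      have hsum : ∑ i, bK.repr t i • (bW i : K ⊗[k] A) = 1 := by
        rw [← ht]
        conv_rhs => rw [← bK.sum_repr t]
        rw [map_sum]
        refine Finset.sum_congr rfl fun i _ => ?_
        rw [map_smul, Module.Basis.baseChange_apply,
          show D (1 ⊗ₜ[k] bW i) = (1 : K) • (bW i : K ⊗[k] A) from descEquiv_tmul a' _ _ _ 1 (bW i), one_smul]
      rw [h0, map_zero, hsum] at h1
      refine one_ne_zero (h1.trans ?_).symm
      show Matrix.det (LinearMap.toMatrix bA bA (LinearMap.mul K (K ⊗[k] A) 1)) = 1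
      rw [show LinearMap.mul K (K ⊗[k] A) 1 = LinearMap.id from LinearMap.ext fun x => one_mul x,
        LinearMap.toMatrix_id, Matrix.det_one]
    obtain ⟨c, hc, hcne⟩ : ∃ c : Fin (Module.finrank k W) → K,
        (∀ i, c i ∈ Set.range (algebraMap k K)) ∧ MvPolynomial.eval c P ≠ 0 := by
      by_contra hall
      push Not at hall
      exact hne (MvPolynomial.funext_set (fun _ => Set.range (algebraMap k K))
        (fun _ => Set.infinite_range_of_injective (algebraMap k K).injective)
        fun c hc => by rw [map_zero]; exact hall c (fun i => hc i (Set.mem_univ i)))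
    choose c0 hc0 using hc
    refine ⟨∑ i, c i • (bW i : K ⊗[k] A), Submodule.sum_mem _ fun i _ => ?_, ?_⟩
    · rw [← hc0 i, algebraMap_smul]
      exact W.smul_mem _ (bW i).2
    · refine exists_unit_of_bijective_mul ?_
      rw [hP] at hcne
      have hdet : LinearMap.det (LinearMap.mul K (K ⊗[k] A) (∑ i, c i • (bW i : K ⊗[k] A))) ≠ 0 := by
        rw [← LinearMap.det_toMatrix bA]; exact hcne
      exact (Module.End.isUnit_iff _).1 ((LinearMap.isUnit_iff_isUnit_det _).2 hdet.isUnit) |>.2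

theorem units_isTrivial : GpH1.H1.IsTrivial (K ≃ₐ[k] K) (K ⊗[k] A)ˣ := by
  intro x
  obtain ⟨a, rfl⟩ := GpH1.OneCocycle.cl_surjective x
  obtain ⟨w, ⟨u, rfl⟩, hw⟩ := exists_fixed_isUnit a
  refine (GpH1.OneCocycle.cl_eq_cl_iff _ _).2 ⟨u⁻¹, fun σ => ?_⟩
  show a σ = (u⁻¹)⁻¹ * 1 * σ • u⁻¹
  rw [inv_inv, mul_one, smul_inv', eq_mul_inv_iff_mul_eq]
  exact Units.ext (hw σ)

end Groth.Agent.GalH1
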